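/-
Discriminants of the standard hyperbolic and elliptic quadratic forms.
-/
import Cfsg.Agent.Lib.Forms.Det

set_option autoImplicit false

namespace Cfsg.Agent.Lib.Orth52

open QuadraticMap Matrix
open Cfsg.Agent.Lib.Forms

variable {F : Type*} [Field F]

theorem isSquare_mul_nonsquare [Fintype F] [DecidableEq F] (h2 : ringChar F ≠ 2) {x y : F}
    (hx : x ≠ 0) (hy : y ≠ 0) (hy' : ¬ IsSquare y) : IsSquare (x * y) ↔ ¬ IsSquare x := by
  rw [← quadraticChar_one_iff_isSquare (mul_ne_zero hx hy), map_mul,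
    quadraticChar_neg_one_iff_not_isSquare.2 hy',
    ← quadraticChar_neg_one_iff_not_isSquare (F := F) (a := x)]
  constructor <;> intro h
  · rw [mul_neg_one, neg_eq_iff_eq_neg] at h
    exact h
  · rw [h]; norm_num

/-- The discriminant in any basis has the square class of the discriminant in a given basis. -/
theorem isSquare_det_basis {V : Type*} [AddCommGroup V] [Module F V] {ι κ : Type*} [Fintype ι]
    [DecidableEq ι] [Fintype κ] [DecidableEq κ] (Q : QuadraticForm F V) (b : Module.Basis ι F V)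
    (c : Module.Basis κ F V) :
    IsSquare (Matrix.of fun i j => polar (⇑Q) (b i) (b j)).det ↔
      IsSquare (Matrix.of fun i j => polar (⇑Q) (c i) (c j)).det := by
  have e := b.indexEquiv c
  have hM : ∀ (b' : Module.Basis κ F V),
      (Matrix.of fun i j => polar (⇑Q) (b' i) (b' j)) = LinearMap.BilinForm.toMatrix b' (polarBilin Q) := by
    intro b'; ext i j; rw [LinearMap.BilinForm.toMatrix_apply]; rfl
  have h1 : (Matrix.of fun i j => polar (⇑Q) (b i) (b j)).det =
      (Matrix.of fun i j => polar (⇑Q) ((b.reindex e) i) ((b.reindex e) j)).det := by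
    rw [← Matrix.det_submatrix_equiv_self e.symm (Matrix.of fun i j => polar (⇑Q) (b i) (b j))]
    congr 1
    ext i j
    simp
  rw [h1, hM, hM, ← LinearMap.BilinForm.toMatrix_mul_basis_toMatrix (c := b.reindex e) c]
  rw [det_mul, det_mul, det_transpose]
  have hu : (c.toMatrix (b.reindex e)).det ≠ 0 := by
    intro h0
    have := congrArg Matrix.det (c.toMatrix_mul_toMatrix_flip (b.reindex e))
    rw [det_mul, h0, zero_mul, det_one] at this
    exact zero_ne_one this
  generalize (c.toMatrix (b.reindex e)).det = u at hu ⊢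
  generalize (LinearMap.BilinForm.toMatrix c (polarBilin Q)).det = d
  constructor
  · rintro ⟨r, hr⟩
    exact ⟨r * u⁻¹, by rw [mul_mul_mul_comm, ← hr]; field_simp⟩
  · rintro ⟨r, hr⟩
    exact ⟨r * u, by rw [hr]; ring⟩

theorem quadFormPlus_eq (m : ℕ) : Cfsg.quadFormPlus m F = ⇑(qPlus (F := F) m) := by
  funext v; rw [qPlus_apply]; rfl

theorem gram_plus (m : ℕ) :
    (Matrix.of fun i j : Fin m ⊕ Fin m =>
      polar (⇑(qPlus (F := F) m)) (Pi.single i 1) (Pi.single j 1)) =
      Matrix.fromBlocks 0 1 1 0 := by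
  ext i j
  rcases i with i | i <;> rcases j with j | j <;>
    simp [qPlus_polar, Matrix.one_apply, Pi.single_apply, eq_comm]

theorem det_swap_blocks (m : ℕ) :
    (Matrix.fromBlocks 0 1 1 0 : Matrix (Fin m ⊕ Fin m) (Fin m ⊕ Fin m) F).det = (-1) ^ m := by
  have h : (Matrix.fromBlocks 1 1 0 1 : Matrix (Fin m ⊕ Fin m) (Fin m ⊕ Fin m) F) *
      Matrix.fromBlocks 0 1 1 0 = Matrix.fromBlocks 1 1 1 0 := by
    simp [Matrix.fromBlocks_multiply]
  have := congrArg Matrix.det h
  rw [det_mul, det_fromBlocks_zero₂₁, det_one, one_mul, one_mul, det_fromBlocks_one₁₁] at this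
  rw [this]
  simp [det_neg]

theorem binary_disc_not_square (h2 : (2 : F) ≠ 0) {a c : F}
    (h : ∀ z₁ z₂ : F, z₁ ^ 2 + a * z₁ * z₂ + c * z₂ ^ 2 = 0 → z₁ = 0 ∧ z₂ = 0) :
    ¬ IsSquare (a ^ 2 - 4 * c) := by
  rintro ⟨s, hs⟩
  have := (h ((-a + s) / 2) 1 (by field_simp; linear_combination -hs)).2
  exact one_ne_zero this

theorem ringChar_ne_two [Fintype F] {q : ℕ} (hF : Fintype.card F = q) (hq : Odd q) :
    ringChar F ≠ 2 := fun h => by
  have := FiniteField.even_card_of_char_two h
  rw [hF] at this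
  rw [Nat.odd_iff] at hq; omega

theorem isSquare_neg_one_pow [Fintype F] {q : ℕ} (hF : Fintype.card F = q) (hq : Odd q) (m : ℕ) :
    IsSquare ((-1 : F) ^ m) ↔ Even (m * (q - 1) / 2) := by
  rw [Nat.odd_iff] at hq
  rw [Nat.mul_div_assoc m (by omega : 2 ∣ q - 1)]
  rcases Nat.even_or_odd m with hm | hm
  · rw [hm.neg_one_pow]
    exact iff_of_true (IsSquare.one) (hm.mul_right _)
  · rw [hm.neg_one_pow, FiniteField.isSquare_neg_one_iff, hF, Nat.even_mul]
    rw [Nat.odd_iff] at hm
    simp only [Nat.even_iff]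
    omega

end Cfsg.Agent.Lib.Orth52
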