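/-
Bases of the three models of non-degenerate quadratic spaces, similarities.
-/
import Cfsg.Agent.Lib.Forms.Count

set_option autoImplicit false

namespace Cfsg.Agent.Lib.Orth52

open Module QuadraticMap
open Cfsg.Agent.Lib.Forms

variable {F : Type*} [Field F] {V : Type*} [AddCommGroup V] [Module F V]

theorem equiv_apply {V' : Type*} [AddCommGroup V'] [Module F V'] {Q : QuadraticForm F V}
    {Q' : QuadraticForm F V'} (e : Q.IsometryEquiv Q') (x : V') :
    Q (e.toLinearEquiv.symm x) = Q' x := by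
  rw [← e.map_app]
  exact congrArg Q' (e.toLinearEquiv.apply_symm_apply x)

theorem equiv_polar {V' : Type*} [AddCommGroup V'] [Module F V'] {Q : QuadraticForm F V}
    {Q' : QuadraticForm F V'} (e : Q.IsometryEquiv Q') (x y : V') :
    polar Q (e.toLinearEquiv.symm x) (e.toLinearEquiv.symm y) = polar Q' x y :=
  polar_map e.toLinearEquiv.symm.toLinearMap (equiv_apply e) x y

theorem prod_polar {V' : Type*} [AddCommGroup V'] [Module F V'] (Q : QuadraticForm F V)
    (Q' : QuadraticForm F V') (x y : V × V') :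
    polar (Q.prod Q') x y = polar Q x.1 y.1 + polar Q' x.2 y.2 := by
  simp only [polar, QuadraticMap.prod_apply, Prod.fst_add, Prod.snd_add]
  ring

theorem qPlus_single_inl (m : ℕ) (i : Fin m) :
    qPlus (F := F) m (Pi.single (Sum.inl i) 1) = 0 := by
  simp [qPlus_apply, Pi.single_apply]

theorem qPlus_single_inr (m : ℕ) (i : Fin m) :
    qPlus (F := F) m (Pi.single (Sum.inr i) 1) = 0 := by
  simp [qPlus_apply, Pi.single_apply]

theorem qPlus_polar_lr (m : ℕ) (i j : Fin m) :
    polar (⇑(qPlus (F := F) m)) (Pi.single (Sum.inl i) 1) (Pi.single (Sum.inr j) 1) =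
      if i = j then 1 else 0 := by
  simp [qPlus_polar, Pi.single_apply, Finset.sum_add_distrib, eq_comm]

theorem qPlus_polar_ll (m : ℕ) (i j : Fin m) :
    polar (⇑(qPlus (F := F) m)) (Pi.single (Sum.inl i) 1) (Pi.single (Sum.inl j) 1) = 0 := by
  simp [qPlus_polar, Pi.single_apply]

theorem qPlus_polar_rr (m : ℕ) (i j : Fin m) :
    polar (⇑(qPlus (F := F) m)) (Pi.single (Sum.inr i) 1) (Pi.single (Sum.inr j) 1) = 0 := by
  simp [qPlus_polar, Pi.single_apply]

/-- Scaling the first half of the coordinates multiplies `qPlus` by `c`. -/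
theorem exists_similar_qPlus (m : ℕ) {c : F} (hc : c ≠ 0) :
    ∃ g : (Fin m ⊕ Fin m → F) ≃ₗ[F] (Fin m ⊕ Fin m → F), ∀ v, qPlus m (g v) = c * qPlus m v := by
  let d : Fin m ⊕ Fin m → Fˣ := Sum.elim (fun _ => Units.mk0 c hc) 1
  refine ⟨LinearEquiv.piCongrRight fun k => LinearEquiv.smulOfUnit (d k), fun v => ?_⟩
  rw [qPlus_apply, qPlus_apply, Finset.mul_sum]
  refine Finset.sum_congr rfl fun i _ => ?_
  show (c * v (.inl i)) * (((1 : Fˣ) : F) * v (.inr i)) = _
  rw [Units.val_one, one_mul, mul_assoc]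

/-- An anisotropic binary form represents every `c ≠ 0` as a multiplier. -/
theorem exists_similar_qBin [Finite F] {a b : F}
    (hab : ∀ z₁ z₂ : F, z₁ ^ 2 + a * z₁ * z₂ + b * z₂ ^ 2 = 0 → z₁ = 0 ∧ z₂ = 0) {c : F} (hc : c ≠ 0) :
    ∃ g : (Fin 2 → F) ≃ₗ[F] (Fin 2 → F), ∀ v, qBin a b (g v) = c * qBin a b v := by
  obtain ⟨u, hu⟩ := exists_Q_eq (qBin_nondeg hab) (by simp) c
  let L : (Fin 2 → F) →ₗ[F] (Fin 2 → F) :=
    { toFun := fun z => ![u 0 * z 0 - b * u 1 * z 1, u 0 * z 1 + u 1 * z 0 + a * u 1 * z 1]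
      map_add' := fun x y => by ext i; fin_cases i <;> simp <;> ring
      map_smul' := fun t x => by ext i; fin_cases i <;> simp <;> ring }
  have hL : ∀ z, qBin a b (L z) = c * qBin a b z := fun z => by
    rw [← hu]; simp [L, qBin_apply]; ring
  have hinj : Function.Injective L := by
    rw [injective_iff_map_eq_zero]
    intro z hz
    refine qBin_anisotropic hab z ?_
    have := hL z
    rw [hz, QuadraticMap.map_zero] at this
    exact (mul_eq_zero.1 this.symm).resolve_left hc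
  exact ⟨LinearEquiv.ofInjectiveEndo L hinj, hL⟩

/-- A normalised basis of an anisotropic binary form. -/
theorem exists_plane_basis {a b : F}
    (hab : ∀ z₁ z₂ : F, z₁ ^ 2 + a * z₁ * z₂ + b * z₂ ^ 2 = 0 → z₁ = 0 ∧ z₂ = 0)
    (h : a ≠ 0 ∨ (2 : F) ≠ 0) :
    ∃ (B : Module.Basis (Fin 2) F (Fin 2 → F)) (ζ : F), (∀ t : F, t ^ 2 + t + ζ ≠ 0) ∧
      qBin a b (B 0) = 1 ∧ polar (⇑(qBin a b)) (B 0) (B 1) = 1 ∧ qBin a b (B 1) = ζ := by
  obtain ⟨s, t, ht, hst⟩ : ∃ s t : F, t ≠ 0 ∧ 2 * s + a * t = 1 := by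
    rcases eq_or_ne a 0 with rfl | ha
    · exact ⟨2⁻¹, 1, one_ne_zero, by rw [mul_inv_cancel₀ (h.resolve_left (by simp))]; ring⟩
    · exact ⟨0, a⁻¹, inv_ne_zero ha, by rw [mul_inv_cancel₀ ha]; ring⟩
  have hli : LinearIndependent F ![(![1, 0] : Fin 2 → F), ![s, t]] := by
    refine LinearIndependent.pair_iff.2 fun x y hxy => ?_
    have h0 := congrFun hxy 0
    have h1 := congrFun hxy 1
    simp at h0 h1
    have hy : y = 0 := h1.resolve_right ht
    subst hy
    exact ⟨by simpa using h0, rfl⟩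
  let B := basisOfLinearIndependentOfCardEqFinrank hli (by simp)
  refine ⟨B, qBin a b ![s, t], fun r hr => ?_, ?_, ?_, ?_⟩
  · have h2 := hab (r + s) t (by rw [qBin_apply] at hr; simp at hr; linear_combination hr + r * hst)
    exact ht h2.2
  · simp [B, qBin_apply]
  · simp only [B, coe_basisOfLinearIndependentOfCardEqFinrank, Matrix.cons_val_zero,
      Matrix.cons_val_one, polar, qBin_apply, Pi.add_apply]
    linear_combination hst
  · simp [B]

end Cfsg.Agent.Lib.Orth52
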