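/-
The spinor character of a finite orthogonal group in odd characteristic, products of reflections, and the
bridge to `Cfsg.Omega`.
-/
import Cfsg.Agent.Lib.Forms.Omega
import Cfsg.Agent.Lib.Forms.Det

set_option autoImplicit false

namespace Cfsg.Agent.Lib.Orth52

open Module QuadraticMap
open Cfsg.Agent.Lib.Forms

/-- The homomorphism sending the generator of `ZMod 2` to a sign. -/
def zmod2Char (s : ℤˣ) : Multiplicative (ZMod 2) →* ℤˣ where
  toFun x := if x = 1 then 1 else s
  map_one' := if_pos rfl
  map_mul' x y := by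
    rcases Int.units_eq_one_or s with rfl | rfl
    · simp
    · rcases mult_zmod2_cases x with rfl | rfl <;> rcases mult_zmod2_cases y with rfl | rfl <;> decide

theorem zmod2Char_gen (s : ℤˣ) : zmod2Char s (Multiplicative.ofAdd (1 : ZMod 2)) = s := by
  show (if Multiplicative.ofAdd (1 : ZMod 2) = 1 then (1 : ℤˣ) else s) = s
  exact if_neg (by decide)

variable {F : Type*} [Field F] {V : Type*} [AddCommGroup V] [Module F V]
variable {Q : QuadraticForm F V}

/-- The product of the reflections in a list of vectors. -/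
def oreflProd (Q : QuadraticForm F V) (vs : List V) : orth Q := (vs.map (orefl Q)).prod

theorem oreflProd_nil (Q : QuadraticForm F V) : oreflProd Q [] = 1 := rfl

theorem oreflProd_cons (Q : QuadraticForm F V) (v : V) (vs : List V) :
    oreflProd Q (v :: vs) = orefl Q v * oreflProd Q vs := by simp [oreflProd]

theorem dickson_oreflProd [FiniteDimensional F V] (hQ : Nondeg Q) (vs : List V)
    (hvs : ∀ v ∈ vs, Q v ≠ 0) : dickson Q (oreflProd Q vs) = (vs.length : ZMod 2) := by
  induction vs using List.reverseRecOn with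
  | nil => simp [oreflProd, dickson_one]
  | append_singleton l v ih =>
    have e : oreflProd Q (l ++ [v]) = oreflProd Q l * orefl Q v := by simp [oreflProd]
    rw [e, dickson_mul_orefl hQ _ (hvs v (by simp)), ih fun x hx => hvs x (by simp [hx]),
      List.length_append, List.length_singleton, Nat.cast_add, Nat.cast_one]

section NegProd

/-- A product of reflections in pairwise orthogonal vectors fixes whatever is orthogonal to all. -/
theorem oreflProd_fix (vs : List V) {x : V} (hx : ∀ v ∈ vs, polar Q v x = 0) :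
    (oreflProd Q vs).1 x = x := by
  induction vs with
  | nil => rfl
  | cons v l ih =>
    rw [oreflProd_cons]
    show refl Q v ((oreflProd Q l).1 x) = x
    rw [ih fun w hw => hx w (List.mem_cons_of_mem _ hw), refl_fix Q (hx v (List.mem_cons_self ..))]

/-- ... and negates each of them. -/
theorem oreflProd_neg (vs : List V) (hvs : ∀ v ∈ vs, Q v ≠ 0)
    (horth : vs.Pairwise fun v w => polar Q v w = 0) {v : V} (hv : v ∈ vs) :
    (oreflProd Q vs).1 v = -v := by
  induction vs with
  | nil => simp at hv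
  | cons w l ih =>
    rw [List.pairwise_cons] at horth
    rw [oreflProd_cons]
    show refl Q w ((oreflProd Q l).1 v) = -v
    rcases List.mem_cons.1 hv with rfl | hv'
    · rw [oreflProd_fix l fun u hu => (polar_comm Q _ _).trans (horth.1 u hu),
        refl_self Q (hvs v (List.mem_cons_self ..))]
    · rw [ih (fun u hu => hvs u (List.mem_cons_of_mem _ hu)) horth.2 hv', map_neg,
        refl_fix Q (horth.1 v hv')]

end NegProd

section Odd

variable [Finite F] [FiniteDimensional F V] [Finite V]

/-- The spinor character. -/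
noncomputable def spinHom (hQ : Nondeg Q) (h2 : (2 : F) ≠ 0) (hn : 2 ≤ finrank F V) :
    orth Q →* ℤˣ :=
  levelSign Q 1 *
    (zmod2Char (levelSign Q 1 (orefl Q (Classical.choose (exists_Q_eq hQ hn 1))))).comp
      (dicksonHom hQ (Or.inl (exists_ne01 h2)))

theorem levelSign_orefl_congr (hQ : Nondeg Q) (c : F) {v w : V} (hv : Q v ≠ 0) {t : F} (ht : t ≠ 0)
    (h : Q w = t * t * Q v) : levelSign Q c (orefl Q w) = levelSign Q c (orefl Q v) := by
  obtain ⟨g, hg⟩ := orefl_conj_of_eq hQ hv ht h
  rw [← hg, map_mul, map_mul, map_inv, mul_comm (levelSign Q c g), mul_inv_cancel_right]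

theorem spinHom_orefl_eq_one_iff (hQ : Nondeg Q) (h2 : (2 : F) ≠ 0) (hn : 2 ≤ finrank F V) {z : V}
    (hz : Q z ≠ 0) : spinHom hQ h2 hn (orefl Q z) = 1 ↔ IsSquare (Q z) := by
  classical
  have := Fintype.ofFinite F
  set v₁ := Classical.choose (exists_Q_eq hQ hn 1) with hv₁
  have h1 : Q v₁ = 1 := Classical.choose_spec (exists_Q_eq hQ hn 1)
  have hv₁0 : Q v₁ ≠ 0 := by rw [h1]; exact one_ne_zero
  have hsq : ∀ y, Q y ≠ 0 → IsSquare (Q y) →
      levelSign Q 1 (orefl Q y) = levelSign Q 1 (orefl Q v₁) := fun y hy ⟨r, hr⟩ =>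
    levelSign_orefl_congr hQ 1 hv₁0 (t := r) (fun e => hy (by rw [hr, e, mul_zero]))
      (by rw [h1, hr, mul_one])
  have hns : ∀ y y', Q y ≠ 0 → Q y' ≠ 0 → ¬ IsSquare (Q y) → ¬ IsSquare (Q y') →
      levelSign Q 1 (orefl Q y) = levelSign Q 1 (orefl Q y') := by
    intro y y' hy hy' n n'
    have hs : IsSquare (Q y / Q y') := by
      have hchar : ringChar F ≠ 2 := fun h => h2 (by
        have := ringChar.Nat.cast_ringChar (R := F)
        rw [h] at this; exact_mod_cast this)
      rw [← quadraticChar_one_iff_isSquare (div_ne_zero hy hy'), div_eq_mul_inv, map_mul,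
        (quadraticChar_neg_one_iff_not_isSquare).2 n,
        (quadraticChar_neg_one_iff_not_isSquare (a := (Q y')⁻¹)).2 (by rwa [isSquare_inv])]
      norm_num
    obtain ⟨r, hr⟩ := hs
    have hr' : Q y = r * r * Q y' := by rw [← hr, div_mul_cancel₀ _ hy']
    exact levelSign_orefl_congr hQ 1 hy' (t := r)
      (fun e => hy (by rw [hr', e, mul_zero, zero_mul])) hr'
  have hval : spinHom hQ h2 hn (orefl Q z) =
      levelSign Q 1 (orefl Q z) * levelSign Q 1 (orefl Q v₁) := by
    rw [spinHom, MonoidHom.mul_apply, MonoidHom.comp_apply, dicksonHom_orefl hQ _ hz, zmod2Char_gen]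
  rw [hval]
  constructor
  · intro h
    by_contra hzn
    obtain ⟨v, w, hv, hw, hne⟩ := exists_separated hQ h2 hn (c := (1 : F)) one_ne_zero
    have he : levelSign Q 1 (orefl Q z) = levelSign Q 1 (orefl Q v₁) := by
      rw [mul_eq_one_iff_eq_inv, Int.units_inv_eq_self] at h
      exact h
    apply hne
    have key : ∀ y, Q y ≠ 0 → levelSign Q 1 (orefl Q y) = levelSign Q 1 (orefl Q z) := fun y hy => by
      by_cases hys : IsSquare (Q y)
      · rw [he, hsq y hy hys]
      · exact hns y z hy hz hys hzn
    rw [key v hv, key w hw]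
  · intro h
    rw [hsq z hz h, Int.units_mul_self]

theorem mem_commutator_iff_spin (hQ : Nondeg Q) (h2 : (2 : F) ≠ 0) (hn : 2 ≤ finrank F V)
    (g : orth Q) :
    g ∈ commutator (orth Q) ↔ dickson Q g = 0 ∧ spinHom hQ h2 hn g = 1 := by
  rw [mem_commutator_iff_odd hQ h2 hn one_ne_zero g]
  refine and_congr_right fun h => ?_
  have e : dicksonHom hQ (Or.inl (exists_ne01 h2)) g = 1 := congrArg Multiplicative.ofAdd h
  rw [spinHom, MonoidHom.mul_apply, MonoidHom.comp_apply, e, map_one, mul_one]

theorem spinHom_oreflProd_eq_one_iff (hQ : Nondeg Q) (h2 : (2 : F) ≠ 0) (hn : 2 ≤ finrank F V)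
    (vs : List V) (hvs : ∀ v ∈ vs, Q v ≠ 0) :
    spinHom hQ h2 hn (oreflProd Q vs) = 1 ↔ IsSquare (vs.map fun v => Q v).prod := by
  classical
  have := Fintype.ofFinite F
  have key : ∀ l : List V, (∀ v ∈ l, Q v ≠ 0) →
      ((spinHom hQ h2 hn (oreflProd Q l) : ℤˣ) : ℤ) = quadraticChar F (l.map fun v => Q v).prod ∧
        (l.map fun v => Q v).prod ≠ 0 := by
    intro l hl
    induction l with
    | nil => simp [oreflProd_nil]
    | cons v l ih =>
      obtain ⟨ih1, ih2⟩ := ih fun x hx => hl x (List.mem_cons_of_mem _ hx)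
      have hv := hl v (List.mem_cons_self ..)
      refine ⟨?_, by simp [hv, ih2]⟩
      rw [oreflProd_cons, map_mul, Units.val_mul, ih1, List.map_cons, List.prod_cons, map_mul]
      congr 1
      by_cases hs : IsSquare (Q v)
      · rw [(spinHom_orefl_eq_one_iff hQ h2 hn hv).2 hs, (quadraticChar_one_iff_isSquare hv).2 hs]
        rfl
      · rw [(Int.units_eq_one_or _).resolve_left fun e =>
          hs ((spinHom_orefl_eq_one_iff hQ h2 hn hv).1 e),
          (quadraticChar_neg_one_iff_not_isSquare).2 hs]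
        rfl
  obtain ⟨h, hne⟩ := key vs hvs
  rw [← Units.val_eq_one, h, quadraticChar_one_iff_isSquare hne]

theorem oreflProd_mem_commutator_iff (hQ : Nondeg Q) (h2 : (2 : F) ≠ 0) (hn : 2 ≤ finrank F V)
    (vs : List V) (hvs : ∀ v ∈ vs, Q v ≠ 0) :
    oreflProd Q vs ∈ commutator (orth Q) ↔ Even vs.length ∧ IsSquare (vs.map fun v => Q v).prod := by
  rw [mem_commutator_iff_spin hQ h2 hn, dickson_oreflProd hQ vs hvs,
    spinHom_oreflProd_eq_one_iff hQ h2 hn vs hvs, ZMod.natCast_eq_zero_iff_even]

end Odd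

section Two

variable [Finite F] [FiniteDimensional F V]

/-- In characteristic two the commutator subgroup is the kernel of the Dickson invariant. -/
theorem mem_commutator_iff_two (hQ : Nondeg Q) (h2 : (2 : F) = 0) (hn : 2 ≤ finrank F V)
    (h : (∃ a : F, a ≠ 0 ∧ a ≠ 1) ∨ finrank F V ≠ 4) (g : orth Q) :
    g ∈ commutator (orth Q) ↔ dickson Q g = 0 := by
  have hle := Abelianization.commutator_subset_ker (dicksonHom hQ h)
  have hk : commutator (orth Q) = (dicksonHom hQ h).ker := by
    have := Module.finite_of_finite F (M := V)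
    obtain ⟨v, hv⟩ := exists_Q_eq hQ hn 1
    have hsurj : Function.Surjective (dicksonHom hQ h) := fun p => by
      rcases mult_zmod2_cases p with rfl | rfl
      · exact ⟨1, map_one _⟩
      · exact ⟨orefl Q v, dicksonHom_orefl hQ h (by rw [hv]; exact one_ne_zero)⟩
    have hi : (dicksonHom hQ h).ker.index = 2 := by
      rw [Subgroup.index_ker, MonoidHom.range_eq_top.2 hsurj, Subgroup.card_top]
      simp
    have hm := Subgroup.relIndex_mul_index hle
    rw [index_commutator_two hQ h2 hn h, hi] at hm
    exact le_antisymm hle (Subgroup.relIndex_eq_one.1 (by omega))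
  rw [hk, MonoidHom.mem_ker]
  exact Multiplicative.ofAdd.apply_eq_iff_eq_symm_apply

end Two

/-! ### Bridge to `Cfsg.Omega` -/

section Bridge

variable {ι : Type} [Fintype ι] [DecidableEq ι] (q : QuadraticForm F (ι → F)) {f : (ι → F) → F}

theorem mem_Omega_iff_orth (hf : ∀ v, f v = q v) (g : Cfsg.isometryGroup F f) :
    g ∈ Cfsg.Omega F f ↔ isoOrth q hf g ∈ commutator (orth q) := by
  have h : (commutator (Cfsg.isometryGroup F f)).map (isoOrth q hf).toMonoidHom
      = commutator (orth q) := by
    rw [commutator_def, commutator_def, Subgroup.map_commutator,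
      Subgroup.map_top_of_surjective _ (isoOrth q hf).surjective]
  rw [← h]
  exact ⟨fun hg => Subgroup.mem_map_of_mem _ hg, fun ⟨a, ha, e⟩ => (isoOrth q hf).injective e ▸ ha⟩

/-- An element of `Ω` with a given matrix exists iff the corresponding orthogonal map is in the
commutator subgroup. -/
theorem exists_Omega_iff (hf : ∀ v, f v = q v) (M : Matrix ι ι F) (o : orth q)
    (ho : ∀ v, o.1 v = M.mulVec v) :
    (∃ g : Cfsg.isometryGroup F f, g ∈ Cfsg.Omega F f ∧
      ((g : Matrix.GeneralLinearGroup ι F) : Matrix ι ι F) = M) ↔ o ∈ commutator (orth q) := by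
  constructor
  · rintro ⟨g, hg, hgM⟩
    have : isoOrth q hf g = o := by
      apply Subtype.ext
      ext x : 1
      rw [isoOrth_apply, hgM, ho]
    exact this ▸ (mem_Omega_iff_orth q hf g).1 hg
  · intro h
    obtain ⟨g, hg⟩ := (isoOrth q hf).surjective o
    refine ⟨g, (mem_Omega_iff_orth q hf g).2 (hg ▸ h), ?_⟩
    apply Matrix.ext_of_mulVec_single
    intro j
    rw [← isoOrth_apply q hf g, hg, ho]

theorem oreflProd_apply (vs : List (ι → F)) (x : ι → F) :
    (oreflProd q vs).1 x = ((vs.map fun v => Cfsg.reflectionMatrix (⇑q) v).prod).mulVec x := by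
  induction vs with
  | nil => simp [oreflProd_nil]
  | cons v l ih =>
    rw [oreflProd_cons, List.map_cons, List.prod_cons, ← Matrix.mulVec_mulVec, ← ih,
      reflectionMatrix_mulVec]
    rfl

theorem det_orth_eq [Finite F] (hQ : Nondeg q) (h2 : (2 : F) ≠ 0) (g : Cfsg.isometryGroup F (⇑q)) :
    ((g : Matrix.GeneralLinearGroup ι F) : Matrix ι ι F).det = 1 ↔
      dickson q (isoOrth q (fun _ => rfl) g) = 0 := by
  have hcl := closure_reflSet hQ (Or.inl (exists_ne01 h2))
  have hne : (-1 : F) ≠ 1 := fun h => h2 (by linear_combination -h)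
  suffices ∀ o : orth q, ∃ vs : List (ι → F), (∀ v ∈ vs, q v ≠ 0) ∧ oreflProd q vs = o by
    obtain ⟨vs, hvs, hprod⟩ := this (isoOrth q (fun _ => rfl) g)
    have hM : ((g : Matrix.GeneralLinearGroup ι F) : Matrix ι ι F) =
        (vs.map fun v => Cfsg.reflectionMatrix (⇑q) v).prod := by
      apply Matrix.ext_of_mulVec_single
      intro j
      rw [← isoOrth_apply q (fun _ => rfl) g, ← hprod, oreflProd_apply]
    have hdet : ∀ l : List (ι → F), (∀ v ∈ l, q v ≠ 0) →
        ((l.map fun v => Cfsg.reflectionMatrix (⇑q) v).prod).det = (-1) ^ l.length := by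
      intro l hl
      induction l with
      | nil => simp
      | cons v l ih =>
        rw [List.map_cons, List.prod_cons, Matrix.det_mul,
          det_reflectionMatrix q (hl v (List.mem_cons_self ..)),
          ih fun x hx => hl x (List.mem_cons_of_mem _ hx), List.length_cons, pow_succ']
    rw [hM, hdet vs hvs, ← hprod, dickson_oreflProd hQ vs hvs, ZMod.natCast_eq_zero_iff_even]
    constructor
    · intro h
      by_contra hodd
      rw [Nat.not_even_iff_odd] at hodd
      rw [hodd.neg_one_pow] at h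
      exact hne h
    · intro h; exact h.neg_one_pow
  intro o
  have ho : o ∈ Subgroup.closure (reflSet q) := by rw [hcl]; trivial
  induction ho using Subgroup.closure_induction_right with
  | one => exact ⟨[], by simp, rfl⟩
  | mul_right x _ y hy ih =>
    obtain ⟨vs, hvs, rfl⟩ := ih
    obtain ⟨v, hv, rfl⟩ := hy
    exact ⟨vs ++ [v], fun x hx => (List.mem_append.1 hx).elim (hvs x) (fun h => List.mem_singleton.1 h ▸ hv), by simp [oreflProd]⟩
  | mul_inv_cancel x _ y hy ih =>
    obtain ⟨vs, hvs, rfl⟩ := ih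
    obtain ⟨v, hv, rfl⟩ := hy
    refine ⟨vs ++ [v], fun x hx => (List.mem_append.1 hx).elim (hvs x) (fun h => List.mem_singleton.1 h ▸ hv), ?_⟩
    have : (orefl q v)⁻¹ = orefl q v := Subtype.ext (refl_inv q v)
    rw [this]
    simp [oreflProd]

end Bridge

end Cfsg.Agent.Lib.Orth52
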