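/-
Negating some hyperbolic pairs of coordinates: membership in `Ω`.
-/
import Cfsg.Agent.Lib.Orth52.Spinor
import Cfsg.Agent.Lib.Orth52.Discriminant

set_option autoImplicit false

namespace Cfsg.Agent.Lib.Orth52

open Module QuadraticMap
open Cfsg.Agent.Lib.Forms

variable {F : Type*} [Field F]

/-- `quadFormOdd` as a quadratic form. -/
def qOddFn (m : ℕ) : QuadraticForm F (Unit ⊕ (Fin m ⊕ Fin m) → F) :=
  QuadraticMap.linMulLin (LinearMap.proj (Sum.inl ())) (LinearMap.proj (Sum.inl ())) +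
    (qPlus m).comp (LinearMap.funLeft F F Sum.inr)

theorem qOddFn_apply (m : ℕ) (v : Unit ⊕ (Fin m ⊕ Fin m) → F) :
    Cfsg.quadFormOdd m F v = qOddFn m v := by
  simp [qOddFn, Cfsg.quadFormOdd, qPlus_apply, LinearMap.funLeft_apply, _root_.sq]

/-- `quadFormMinus` as a quadratic form. -/
def qMinusFn (m : ℕ) (a b : F) : QuadraticForm F ((Fin m ⊕ Fin m) ⊕ Fin 2 → F) :=
  (qPlus m).comp (LinearMap.funLeft F F Sum.inl) +
    (qBin a b).comp (LinearMap.funLeft F F Sum.inr)

theorem qMinusFn_apply (m : ℕ) (a b : F) (v : (Fin m ⊕ Fin m) ⊕ Fin 2 → F) :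
    Cfsg.quadFormMinus m F a b v = qMinusFn m a b v := by
  simp [qMinusFn, Cfsg.quadFormMinus, qPlus_apply, qBin_apply, LinearMap.funLeft_apply]

theorem qOddFn_nondeg (m : ℕ) (h2 : (2 : F) ≠ 0) : Nondeg (qOddFn (F := F) m) := by
  intro x hx
  have hp : ∀ y, polar (⇑(qOddFn (F := F) m)) x y =
      2 * (x (.inl ()) * y (.inl ())) + polar (⇑(qPlus (F := F) m)) (x ∘ Sum.inr) (y ∘ Sum.inr) := by
    intro y
    have ha : ∀ v, qOddFn m v = v (.inl ()) * v (.inl ()) + qPlus (F := F) m (v ∘ Sum.inr) := fun v => rfl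
    simp only [polar, ha, Pi.add_apply, Pi.add_comp]
    ring
  have h1 : x (.inl ()) = 0 := by
    have h := hx (Pi.single (.inl ()) 1)
    rw [hp] at h
    have e : (Pi.single (Sum.inl () : Unit ⊕ (Fin m ⊕ Fin m)) (1 : F)) ∘ Sum.inr = 0 := by
      funext k; simp
    rw [e, polar_zero_right, add_zero, Pi.single_eq_same, mul_one] at h
    exact (mul_eq_zero.1 h).resolve_left h2
  have h3 : (x ∘ Sum.inr) = 0 := qPlus_nondeg m _ fun y => by
    have h := hx (Sum.elim 0 y)
    rw [hp] at h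
    simpa using h
  funext k
  rcases k with u | k
  · exact h1
  · exact congrFun h3 k

theorem qMinusFn_nondeg [Finite F] (m : ℕ) {a b : F}
    (hab : ∀ z₁ z₂ : F, z₁ ^ 2 + a * z₁ * z₂ + b * z₂ ^ 2 = 0 → z₁ = 0 ∧ z₂ = 0) :
    Nondeg (qMinusFn m a b) := by
  intro x hx
  have hp : ∀ y, polar (⇑(qMinusFn m a b)) x y =
      polar (⇑(qPlus (F := F) m)) (x ∘ Sum.inl) (y ∘ Sum.inl) +
        polar (⇑(qBin a b)) (x ∘ Sum.inr) (y ∘ Sum.inr) := by
    intro y
    have ha : ∀ v, qMinusFn m a b v = qPlus (F := F) m (v ∘ Sum.inl) + qBin a b (v ∘ Sum.inr) :=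
      fun v => rfl
    simp only [polar, ha, Pi.add_comp]
    ring
  have h1 : (x ∘ Sum.inl) = 0 := qPlus_nondeg m _ fun y => by
    have h := hx (Sum.elim y 0)
    rw [hp] at h
    simpa using h
  have h3 : (x ∘ Sum.inr) = 0 := qBin_nondeg hab _ fun y => by
    have h := hx (Sum.elim 0 y)
    rw [hp] at h
    simpa using h
  funext k
  rcases k with k | k
  · exact congrFun h1 k
  · exact congrFun h3 k

variable [Finite F] {ι : Type} [Fintype ι] [DecidableEq ι]

/-- Negating `i ≥ 1` hyperbolic coordinate pairs. -/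
theorem negPairs_mem_Omega_iff {q : QuadraticForm F (ι → F)} {f : (ι → F) → F} (hf : ∀ v, f v = q v)
    (hQ : Nondeg q) (h2 : (2 : F) ≠ 0) {i : ℕ} (hi : 1 ≤ i) (l r : Fin i → ι) (d : ι → F)
    (hQlr : ∀ j (t : F), q (Pi.single (l j) 1 + t • Pi.single (r j) 1) = t)
    (hpl : ∀ j k, polar q (Pi.single (l j) 1) (Pi.single k 1) = if k = r j then 1 else 0)
    (hpr : ∀ j k, polar q (Pi.single (r j) 1) (Pi.single k 1) = if k = l j then 1 else 0)
    (hl : Function.Injective l) (hr : Function.Injective r) (hlr : ∀ j j', l j ≠ r j')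
    (hdl : ∀ j, d (l j) = -1) (hdr : ∀ j, d (r j) = -1)
    (hd : ∀ k, (∀ j, k ≠ l j ∧ k ≠ r j) → d k = 1) :
    (∃ g : Cfsg.isometryGroup F f, g ∈ Cfsg.Omega F f ∧
      ((g : Matrix.GeneralLinearGroup ι F) : Matrix ι ι F) = Matrix.diagonal d) ↔
        IsSquare ((-1 : F) ^ i) := by
  let P : Fin i → (ι → F) := fun j => Pi.single (l j) 1 + (1 : F) • Pi.single (r j) 1
  let N : Fin i → (ι → F) := fun j => Pi.single (l j) 1 + (-1 : F) • Pi.single (r j) 1
  let vs := List.ofFn P ++ List.ofFn N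
  have hvs : ∀ v ∈ vs, q v ≠ 0 := by
    intro v hv
    rcases List.mem_append.1 hv with h | h <;> obtain ⟨j, rfl⟩ := List.mem_ofFn.1 h <;>
      simp only [P, N, hQlr] <;> simp
  have hpol : ∀ (j : Fin i) (s : F) (k : ι),
      polar q (Pi.single (l j) 1 + s • Pi.single (r j) 1) (Pi.single k 1) =
        (if k = r j then 1 else 0) + s * (if k = l j then 1 else 0) := by
    intro j s k
    rw [polar_add_left, polar_smul_left, hpl, hpr, smul_eq_mul]
  have hpol2 : ∀ (j j' : Fin i) (s t : F),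
      polar q (Pi.single (l j) 1 + s • Pi.single (r j) 1) (Pi.single (l j') 1 + t • Pi.single (r j') 1) =
        if j = j' then s + t else 0 := by
    intro j j' s t
    rw [polar_add_right, polar_smul_right, hpol, hpol, smul_eq_mul]
    by_cases h : j = j'
    · subst h
      simp [hlr j j, (hlr j j).symm]
    · simp [h, hlr j' j, (hlr j j').symm, hl.ne (Ne.symm h), hr.ne (Ne.symm h)]
  have horth : vs.Pairwise fun v w => polar q v w = 0 := by
    rw [List.pairwise_append, List.pairwise_ofFn, List.pairwise_ofFn]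
    refine ⟨fun j j' h => by simp only [P, hpol2, h.ne, if_false],
      fun j j' h => by simp only [N, hpol2, h.ne, if_false], ?_⟩
    intro v hv w hw
    obtain ⟨j, rfl⟩ := List.mem_ofFn.1 hv
    obtain ⟨j', rfl⟩ := List.mem_ofFn.1 hw
    simp only [P, N, hpol2]
    split <;> simp
  have key : ∀ k, (oreflProd q vs).1 (Pi.single k 1) = d k • Pi.single k 1 := by
    intro k
    by_cases hk : ∀ j, k ≠ l j ∧ k ≠ r j
    · rw [hd k hk, one_smul]
      refine oreflProd_fix vs fun v hv => ?_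
      rcases List.mem_append.1 hv with h | h <;> obtain ⟨j, rfl⟩ := List.mem_ofFn.1 h <;>
        simp only [P, N, hpol, (hk j).1, (hk j).2, if_false] <;> simp
    · obtain ⟨j, hj⟩ : ∃ j, k = l j ∨ k = r j := by
        by_contra hc
        push Not at hc
        exact hk hc
      have hP : (oreflProd q vs).1 (P j) = -P j :=
        oreflProd_neg vs hvs horth (List.mem_append_left _ (List.mem_ofFn.2 ⟨j, rfl⟩))
      have hN : (oreflProd q vs).1 (N j) = -N j :=
        oreflProd_neg vs hvs horth (List.mem_append_right _ (List.mem_ofFn.2 ⟨j, rfl⟩))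
      rcases hj with rfl | rfl
      · rw [hdl]
        have e : (Pi.single (l j) 1 : ι → F) = (2 : F)⁻¹ • (P j + N j) := by
          simp only [P, N, one_smul, neg_smul]
          rw [show ∀ a b : ι → F, a + b + (a + -b) = (2 : F) • a from fun a b => by rw [two_smul]; abel,
            smul_smul, inv_mul_cancel₀ h2, one_smul]
        rw [e, map_smul, map_add, hP, hN, neg_one_smul, ← neg_add, smul_neg]
      · rw [hdr]
        have e : (Pi.single (r j) 1 : ι → F) = (2 : F)⁻¹ • (P j - N j) := by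
          simp only [P, N, one_smul, neg_smul]
          rw [show ∀ a b : ι → F, a + b - (a + -b) = (2 : F) • b from fun a b => by rw [two_smul]; abel,
            smul_smul, inv_mul_cancel₀ h2, one_smul]
        rw [e, map_smul, map_sub, hP, hN, neg_one_smul, neg_sub_neg, ← smul_neg, neg_sub]
  have happly : ∀ v, (oreflProd q vs).1 v = (Matrix.diagonal d).mulVec v := by
    have : (oreflProd q vs).1.toLinearMap = Matrix.mulVecLin (Matrix.diagonal d) := by
      refine (Pi.basisFun F ι).ext fun k => ?_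
      rw [Pi.basisFun_apply, LinearEquiv.coe_coe, key, Matrix.mulVecLin_apply, Matrix.mulVec_single_one]
      funext k'
      by_cases h : k' = k
      · subst h; simp
      · simp [Matrix.diagonal_apply_ne _ h, h]
    exact fun v => congrFun (congrArg DFunLike.coe this) v
  have hn : 2 ≤ finrank F (ι → F) := by
    rw [Module.finrank_fintype_fun_eq_card]
    exact Fintype.one_lt_card_iff.2 ⟨l ⟨0, hi⟩, r ⟨0, hi⟩, hlr _ _⟩
  rw [exists_Omega_iff q hf (Matrix.diagonal d) (oreflProd q vs) happly,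
    oreflProd_mem_commutator_iff hQ h2 hn vs hvs]
  have hprod : (vs.map fun v => q v).prod = (-1 : F) ^ i := by
    simp only [vs, P, N, List.map_append, List.prod_append, List.map_ofFn, List.prod_ofFn, Function.comp_def, hQlr]
    simp
  rw [hprod]
  exact and_iff_right ⟨i, by simp [vs]⟩

theorem isSquare_neg_one_pow_iff [Fintype F] {q : ℕ} (hF : Fintype.card F = q) (hq : Odd q) (i : ℕ) :
    IsSquare ((-1 : F) ^ i) ↔ q ^ i % 4 = 1 := by
  rw [Nat.odd_iff] at hq
  rcases Nat.even_or_odd i with hi | hi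
  · rw [hi.neg_one_pow]
    refine iff_of_true IsSquare.one ?_
    obtain ⟨k, rfl⟩ := hi
    rw [← two_mul, pow_mul, Nat.pow_mod, Nat.pow_mod q 2]
    have h4 : q % 4 = 1 ∨ q % 4 = 3 := by omega
    rcases h4 with h | h <;> simp [h]
  · rw [hi.neg_one_pow, FiniteField.isSquare_neg_one_iff, hF]
    obtain ⟨k, rfl⟩ := hi
    rw [pow_succ, pow_mul, Nat.mul_mod, Nat.pow_mod, Nat.pow_mod q 2]
    have h4 : q % 4 = 1 ∨ q % 4 = 3 := by omega
    rcases h4 with h | h <;> simp [h]

end Cfsg.Agent.Lib.Orth52
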