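/-
The block-diagonal embedding `O(Q₁) × O(Q₂) → O(Q₁ ⊕ Q₂)`.
-/
import Cfsg.Prelude.Def_Classical

set_option autoImplicit false

namespace Cfsg.Agent.Lib.Orth52

open Matrix

variable {F : Type*} [Field F] {ι κ : Type} [Fintype ι] [DecidableEq ι] [Fintype κ] [DecidableEq κ]

/-- Block-diagonal units. -/
def blockUnit (a : (Matrix ι ι F)ˣ) (b : (Matrix κ κ F)ˣ) : (Matrix (ι ⊕ κ) (ι ⊕ κ) F)ˣ where
  val := fromBlocks a.val 0 0 b.val
  inv := fromBlocks (↑a⁻¹) 0 0 (↑b⁻¹)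
  val_inv := by simp [fromBlocks_multiply]
  inv_val := by simp [fromBlocks_multiply]

theorem coe_blockUnit (a : (Matrix ι ι F)ˣ) (b : (Matrix κ κ F)ˣ) :
    (↑(blockUnit a b) : Matrix (ι ⊕ κ) (ι ⊕ κ) F) = fromBlocks a.val 0 0 b.val := rfl

/-- The orthogonal sum of two functions. -/
def sumForm (f₁ : (ι → F) → F) (f₂ : (κ → F) → F) (v : ι ⊕ κ → F) : F :=
  f₁ (v ∘ Sum.inl) + f₂ (v ∘ Sum.inr)

theorem blockUnit_mem (f₁ : (ι → F) → F) (f₂ : (κ → F) → F)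
    (g₁ : Cfsg.isometryGroup F f₁) (g₂ : Cfsg.isometryGroup F f₂) :
    blockUnit g₁.1 g₂.1 ∈ Cfsg.isometryGroup F (sumForm f₁ f₂) := by
  intro u v
  show sumForm f₁ f₂ (fromBlocks _ 0 0 _ *ᵥ u) = sumForm f₁ f₂ u
  have h₁ : f₁ ((g₁.1 : Matrix ι ι F) *ᵥ (u ∘ Sum.inl)) = f₁ (u ∘ Sum.inl) := g₁.2 (u ∘ Sum.inl) 0
  have h₂ : f₂ ((g₂.1 : Matrix κ κ F) *ᵥ (u ∘ Sum.inr)) = f₂ (u ∘ Sum.inr) := g₂.2 (u ∘ Sum.inr) 0
  simp [sumForm, fromBlocks_mulVec, h₁, h₂]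

/-- The block-diagonal embedding of isometry groups. -/
def sumHom (f₁ : (ι → F) → F) (f₂ : (κ → F) → F) :
    Cfsg.isometryGroup F f₁ × Cfsg.isometryGroup F f₂ →* Cfsg.isometryGroup F (sumForm f₁ f₂) where
  toFun p := ⟨blockUnit p.1.1 p.2.1, blockUnit_mem f₁ f₂ p.1 p.2⟩
  map_one' := by
    refine Subtype.ext (Units.ext ?_)
    exact Matrix.fromBlocks_one
  map_mul' p p' := by
    refine Subtype.ext (Units.ext ?_)
    simp [coe_blockUnit, fromBlocks_multiply]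

theorem coe_sumHom (f₁ : (ι → F) → F) (f₂ : (κ → F) → F) (g₁ : Cfsg.isometryGroup F f₁)
    (g₂ : Cfsg.isometryGroup F f₂) :
    (((sumHom f₁ f₂ (g₁, g₂)).1 : Matrix.GeneralLinearGroup (ι ⊕ κ) F) : Matrix (ι ⊕ κ) (ι ⊕ κ) F)
      = fromBlocks (g₁.1 : Matrix ι ι F) 0 0 (g₂.1 : Matrix κ κ F) := rfl

/-- A homomorphism maps commutator subgroups into commutator subgroups. -/
theorem apply_mem_commutator {G H : Type*} [Group G] [Group H] (φ : G →* H) {g : G}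
    (hg : g ∈ commutator G) : φ g ∈ commutator H := by
  rw [commutator_def] at hg ⊢
  have := Subgroup.mem_map_of_mem φ hg
  rw [Subgroup.map_commutator] at this
  exact Subgroup.commutator_mono le_top le_top this

theorem sumHom_mem_Omega (f₁ : (ι → F) → F) (f₂ : (κ → F) → F) {g₁ : Cfsg.isometryGroup F f₁}
    {g₂ : Cfsg.isometryGroup F f₂} (h₁ : g₁ ∈ Cfsg.Omega F f₁) (h₂ : g₂ ∈ Cfsg.Omega F f₂) :
    sumHom f₁ f₂ (g₁, g₂) ∈ Cfsg.Omega F (sumForm f₁ f₂) := by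
  have e : (g₁, g₂) = MonoidHom.inl _ _ g₁ * MonoidHom.inr (Cfsg.isometryGroup F f₁) _ g₂ := by simp
  rw [e, map_mul]
  exact mul_mem (apply_mem_commutator _ (apply_mem_commutator _ h₁))
    (apply_mem_commutator _ (apply_mem_commutator _ h₂))

end Cfsg.Agent.Lib.Orth52
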