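/-
The Dickson invariant as a matrix rank; block-diagonal ranks; squares lie in the commutator subgroup.
-/
import Cfsg.Agent.Lib.Orth52.Spinor
import Cfsg.Agent.Lib.Orth52.Sum

set_option autoImplicit false

namespace Cfsg.Agent.Lib.Orth52

open Module QuadraticMap
open Cfsg.Agent.Lib.Forms

variable {F : Type*} [Field F]

theorem rank_fromBlocks_diag {l m n o : Type*} [Fintype m] [Fintype o] [Fintype l] [Fintype n]
    (A : Matrix l m F) (D : Matrix n o F) :
    (Matrix.fromBlocks A 0 0 D).rank = A.rank + D.rank := by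
  let e₁ := LinearEquiv.sumArrowLequivProdArrow l n F F
  let e₂ := LinearEquiv.sumArrowLequivProdArrow m o F F
  have h : e₁.toLinearMap ∘ₗ (Matrix.fromBlocks A 0 0 D).mulVecLin =
      (A.mulVecLin.prodMap D.mulVecLin) ∘ₗ e₂.toLinearMap := by
    refine LinearMap.ext fun v => ?_
    refine Prod.ext ?_ ?_ <;> funext k <;>
      simp [e₁, e₂, Matrix.mulVec, dotProduct, LinearEquiv.sumArrowLequivProdArrow, Equiv.sumArrowEquivProdArrow]
  have hr := congrArg LinearMap.range h
  rw [LinearMap.range_comp, LinearMap.range_comp_of_range_eq_top _ e₂.range, LinearMap.range_prodMap] at hr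
  have hd : finrank F ((A.mulVecLin.range).prod (D.mulVecLin.range)) = A.rank + D.rank := by
    have h' : ((A.mulVecLin.range).prod (D.mulVecLin.range)) =
        LinearMap.range (A.mulVecLin.range.subtype.prodMap D.mulVecLin.range.subtype) := by
      rw [LinearMap.range_prodMap, Submodule.range_subtype, Submodule.range_subtype]
    rw [h', LinearMap.finrank_range_of_inj (Prod.map_injective.2
      ⟨Submodule.injective_subtype _, Submodule.injective_subtype _⟩), Module.finrank_prod]
    rfl
  rw [← hd, ← hr, LinearEquiv.finrank_map_eq]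
  rfl

variable {ι : Type} [Fintype ι] [DecidableEq ι]

theorem dickson_eq_rank (q : QuadraticForm F (ι → F)) (o : orth q) (M : Matrix ι ι F)
    (h : ∀ v, o.1 v = M.mulVec v) : dickson q o = ((M - 1).rank : ZMod 2) := by
  have e : dev o.1 = (M - 1).mulVecLin := LinearMap.ext fun v => by
    simp [dev_apply, h, Matrix.sub_mulVec]
  rw [dickson, e]
  rfl

theorem dickson_isoOrth (q : QuadraticForm F (ι → F)) {f : (ι → F) → F} (hf : ∀ v, f v = q v)
    (g : Cfsg.isometryGroup F f) :
    dickson q (isoOrth q hf g) =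
      ((((g : Matrix.GeneralLinearGroup ι F) : Matrix ι ι F) - 1).rank : ZMod 2) :=
  dickson_eq_rank q _ _ (isoOrth_apply q hf g)

variable [Finite F] {V : Type*} [AddCommGroup V] [Module F V] [FiniteDimensional F V]
  {Q : QuadraticForm F V}

theorem dickson_mul (hQ : Nondeg Q) (h : (∃ a : F, a ≠ 0 ∧ a ≠ 1) ∨ finrank F V ≠ 4) (x y : orth Q) :
    dickson Q (x * y) = dickson Q x + dickson Q y :=
  Multiplicative.ofAdd.injective (by
    have := map_mul (dicksonHom hQ h) x y
    rw [ofAdd_add]; exact this)

/-- Squares lie in the commutator subgroup. -/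
theorem mul_self_mem_commutator (hQ : Nondeg Q) (hn : 2 ≤ finrank F V)
    (h : (∃ a : F, a ≠ 0 ∧ a ≠ 1) ∨ finrank F V ≠ 4) (x : orth Q) :
    x * x ∈ commutator (orth Q) := by
  have hd : dickson Q (x * x) = 0 := by rw [dickson_mul hQ h]; exact CharTwo.add_self_eq_zero _
  by_cases h2 : (2 : F) = 0
  · exact (mem_commutator_iff_two hQ h2 hn h _).2 hd
  · have := Module.finite_of_finite F (M := V)
    exact (mem_commutator_iff_spin hQ h2 hn _).2 ⟨hd, by rw [map_mul, Int.units_mul_self]⟩

/-- Anything with Dickson invariant zero, in characteristic two, or additionally spinor norm one. -/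
theorem mem_commutator_of_dickson_two (hQ : Nondeg Q) (h2 : (2 : F) = 0) (hn : 2 ≤ finrank F V)
    (h : (∃ a : F, a ≠ 0 ∧ a ≠ 1) ∨ finrank F V ≠ 4) {x : orth Q} (hx : dickson Q x = 0) :
    x ∈ commutator (orth Q) := (mem_commutator_iff_two hQ h2 hn h x).2 hx

end Cfsg.Agent.Lib.Orth52
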