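/-
The Levi subgroup `A ↦ diag(A, A⁻ᵀ)` of the hyperbolic orthogonal group and its intersection with `Ω`.
-/
import Cfsg.Agent.Lib.Orth52.Rank
import Cfsg.Agent.Lib.Orth52.Discriminant

set_option autoImplicit false

namespace Cfsg.Agent.Lib.Orth52

open Module QuadraticMap
open Cfsg.Agent.Lib.Forms
open scoped Matrix

variable {F : Type*} [Field F]

theorem exception_of_card [Fintype F] {V : Type*} [AddCommGroup V] [Module F V] {n : ℕ}
    (hV : finrank F V = n) (h : Fintype.card F ≠ 2 ∨ n ≠ 4) :
    (∃ a : F, a ≠ 0 ∧ a ≠ 1) ∨ finrank F V ≠ 4 := by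
  rcases h with h | h
  · left
    classical
    by_contra hc
    push Not at hc
    apply h
    have hu : (Finset.univ : Finset F) = {0, 1} :=
      Finset.ext fun x => by simpa using (em (x = 0)).imp id (hc x)
    rw [← Finset.card_univ, hu, Finset.card_pair zero_ne_one]
  · exact Or.inr (hV ▸ h)

theorem finrank_plusSpace (m : ℕ) : finrank F (Fin m ⊕ Fin m → F) = 2 * m := by
  rw [Module.finrank_fintype_fun_eq_card, Fintype.card_sum, Fintype.card_fin]; omega

/-- `A ↦ diag(A, A⁻ᵀ)`. -/
def leviMat (m : ℕ) (A : GL (Fin m) F) : Matrix (Fin m ⊕ Fin m) (Fin m ⊕ Fin m) F :=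
  Matrix.fromBlocks (A : Matrix (Fin m) (Fin m) F) 0 0 ((↑A⁻¹ : Matrix (Fin m) (Fin m) F))ᵀ

theorem leviMat_mul (m : ℕ) (A B : GL (Fin m) F) : leviMat m (A * B) = leviMat m A * leviMat m B := by
  simp [leviMat, Matrix.fromBlocks_multiply, Matrix.transpose_mul]

theorem leviMat_one (m : ℕ) : leviMat m (1 : GL (Fin m) F) = 1 := by
  simp [leviMat, Matrix.fromBlocks_one]

theorem leviMat_isometry (m : ℕ) (A : GL (Fin m) F) (v : Fin m ⊕ Fin m → F) :
    qPlus m (leviMat m A *ᵥ v) = qPlus m v := by
  rw [qPlus_apply, qPlus_apply]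
  show ((leviMat m A *ᵥ v) ∘ Sum.inl) ⬝ᵥ ((leviMat m A *ᵥ v) ∘ Sum.inr) = (v ∘ Sum.inl) ⬝ᵥ (v ∘ Sum.inr)
  rw [leviMat, Matrix.fromBlocks_mulVec, Sum.elim_comp_inl, Sum.elim_comp_inr, Matrix.zero_mulVec,
    Matrix.zero_mulVec, add_zero, zero_add, Matrix.dotProduct_mulVec, Matrix.vecMul_transpose,
    Matrix.mulVec_mulVec, ← Units.val_mul, inv_mul_cancel, Units.val_one, Matrix.one_mulVec]

/-- The Levi embedding of `GL_m` into the orthogonal group. -/
def leviHom (m : ℕ) : GL (Fin m) F →* orth (qPlus (F := F) m) where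
  toFun A := ⟨glEquiv ⟨leviMat m A, leviMat m A⁻¹,
      by rw [← leviMat_mul, mul_inv_cancel, leviMat_one],
      by rw [← leviMat_mul, inv_mul_cancel, leviMat_one]⟩,
    fun v => leviMat_isometry m A v⟩
  map_one' := by
    apply Subtype.ext
    ext v : 1
    show leviMat m 1 *ᵥ v = v
    rw [leviMat_one, Matrix.one_mulVec]
  map_mul' A B := by
    apply Subtype.ext
    ext v : 1
    show leviMat m (A * B) *ᵥ v = leviMat m A *ᵥ (leviMat m B *ᵥ v)
    rw [leviMat_mul, Matrix.mulVec_mulVec]

theorem leviHom_apply (m : ℕ) (A : GL (Fin m) F) (v : Fin m ⊕ Fin m → F) :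
    (leviHom m A).1 v = leviMat m A *ᵥ v := rfl

theorem dickson_leviHom (m : ℕ) (A : GL (Fin m) F) :
    dickson (qPlus (F := F) m) (leviHom m A) = 0 := by
  rw [dickson_eq_rank _ _ _ (leviHom_apply m A), leviMat, ← Matrix.fromBlocks_one,
    sub_eq_add_neg, Matrix.fromBlocks_neg, Matrix.fromBlocks_add]
  simp only [neg_zero, add_zero, ← sub_eq_add_neg]
  rw [rank_fromBlocks_diag]
  have h : ((↑A⁻¹ : Matrix (Fin m) (Fin m) F)ᵀ - 1).rank = ((A : Matrix (Fin m) (Fin m) F) - 1).rank := by
    rw [← Matrix.transpose_one, ← Matrix.transpose_sub, Matrix.rank_transpose]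
    have e : (↑A⁻¹ : Matrix (Fin m) (Fin m) F) - 1 = (-(↑A⁻¹ : Matrix (Fin m) (Fin m) F)) * (↑A - 1) := by
      rw [mul_sub, Matrix.neg_mul, Units.inv_mul, mul_one]; abel
    rw [e, Matrix.rank_mul_eq_right_of_isUnit_det _ _
      ((Matrix.isUnit_iff_isUnit_det _).1 (Units.isUnit (A⁻¹)).neg), Matrix.transpose_one]
  rw [h, Nat.cast_add]
  exact CharTwo.add_self_eq_zero _

/-- Diagonal invertible matrices. -/
def diagGL (m : ℕ) : (Fin m → Fˣ) →* GL (Fin m) F where
  toFun d := ⟨Matrix.diagonal fun i => (d i : F), Matrix.diagonal fun i => (↑(d i)⁻¹ : F),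
    by simp [Matrix.diagonal_mul_diagonal], by simp [Matrix.diagonal_mul_diagonal]⟩
  map_one' := Units.ext (by simp)
  map_mul' a b := Units.ext (by simp [Matrix.diagonal_mul_diagonal])

theorem leviHom_diagGL_single (m : ℕ) (j : Fin m) (t : Fˣ) :
    leviHom m (diagGL m (Pi.mulSingle j t)) =
      oreflProd (qPlus m)
        [Pi.single (Sum.inl j) 1 - (↑t⁻¹ : F) • Pi.single (Sum.inr j) 1,
         Pi.single (Sum.inl j) 1 - (1 : F) • Pi.single (Sum.inr j) 1] := by
  apply Subtype.ext
  refine LinearEquiv.toLinearMap_injective ((Pi.basisFun F _).ext fun k => ?_)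
  simp only [Pi.basisFun_apply, LinearEquiv.coe_coe, oreflProd, List.map_cons, List.map_nil,
    List.prod_cons, List.prod_nil, mul_one]
  show leviMat m (diagGL m (Pi.mulSingle j t)) *ᵥ Pi.single k 1 =
    refl (qPlus m) _ (refl (qPlus m) _ (Pi.single k 1))
  have hQ : ∀ s : F, qPlus m
      (Pi.single (Sum.inl j) 1 - s • Pi.single (Sum.inr j) 1 : Fin m ⊕ Fin m → F) = -s := by
    intro s; simp [qPlus_apply, Pi.single_apply]
  have hpl : ∀ (s : F) (i : Fin m), polar (⇑(qPlus (F := F) m))
      (Pi.single (Sum.inl j) 1 - s • Pi.single (Sum.inr j) 1) (Pi.single (Sum.inl i) 1) =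
        if i = j then -s else 0 := by
    intro s i
    by_cases h : i = j
    · subst h; simp [qPlus_polar, qPlus_apply, Pi.single_apply]
    · simp [qPlus_polar, Pi.single_apply, h, Ne.symm h]
  have hpr : ∀ (s : F) (i : Fin m), polar (⇑(qPlus (F := F) m))
      (Pi.single (Sum.inl j) 1 - s • Pi.single (Sum.inr j) 1) (Pi.single (Sum.inr i) 1) =
        if i = j then 1 else 0 := by
    intro s i
    by_cases h : i = j
    · subst h; simp [qPlus_polar, qPlus_apply, Pi.single_apply]
    · simp [qPlus_polar, Pi.single_apply, h, Ne.symm h]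
  rw [Matrix.mulVec_single_one]
  rcases k with i | i
  · by_cases h : i = j
    · subst h
      simp only [refl_apply, hQ, hpl, hpr, if_true, polar_sub_right, polar_smul_right, smul_eq_mul]
      funext k
      rcases k with l | l <;> rcases eq_or_ne l i with rfl | hl <;>
        first
        | simp [leviMat, diagGL, Matrix.transpose_apply, Pi.mulSingle_apply, hl, hl.symm]
        | simp [leviMat, diagGL, Matrix.transpose_apply, Pi.mulSingle_apply]
      all_goals field_simp
      all_goals ring
    · simp only [refl_apply, hpl, if_neg h, mul_zero, zero_smul, sub_zero]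
      funext k
      rcases k with l | l <;> rcases eq_or_ne l i with rfl | hl <;>
        first
        | simp [leviMat, diagGL, Matrix.transpose_apply, Pi.mulSingle_apply, h, Ne.symm h, hl, hl.symm]
        | simp [leviMat, diagGL, Matrix.transpose_apply, Pi.mulSingle_apply, h, Ne.symm h]
  · by_cases h : i = j
    · subst h
      simp only [refl_apply, hQ, hpl, hpr, if_true, polar_sub_right, polar_smul_right, smul_eq_mul]
      funext k
      rcases k with l | l <;> rcases eq_or_ne l i with rfl | hl <;>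
        first
        | simp [leviMat, diagGL, Matrix.transpose_apply, Pi.mulSingle_apply, hl, hl.symm]
        | simp [leviMat, diagGL, Matrix.transpose_apply, Pi.mulSingle_apply]
      all_goals field_simp
      all_goals ring
    · simp only [refl_apply, hpr, if_neg h, mul_zero, zero_smul, sub_zero]
      funext k
      rcases k with l | l <;> rcases eq_or_ne l i with rfl | hl <;>
        first
        | simp [leviMat, diagGL, Matrix.transpose_apply, Pi.mulSingle_apply, h, Ne.symm h, hl, hl.symm]
        | simp [leviMat, diagGL, Matrix.transpose_apply, Pi.mulSingle_apply, h, Ne.symm h]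

variable [Fintype F]

/-- The spinor norm of `diag(A, A⁻ᵀ)` is the square class of `det A`. -/
theorem coe_spinHom_leviHom [DecidableEq F] {m : ℕ} (hm : 1 ≤ m) (h2 : (2 : F) ≠ 0)
    (A : GL (Fin m) F) :
    ((spinHom (qPlus_nondeg (F := F) m) h2 (by rw [finrank_plusSpace]; omega) (leviHom m A) : ℤˣ) : ℤ)
      = quadraticChar F (A : Matrix (Fin m) (Fin m) F).det := by
  have hn : 2 ≤ finrank F (Fin m ⊕ Fin m → F) := by rw [finrank_plusSpace]; omega
  let χ : GL (Fin m) F →* ℤˣ := (spinHom (qPlus_nondeg (F := F) m) h2 hn).comp (leviHom m)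
  let ψ : GL (Fin m) F →* ℤˣ :=
    ((Units.map (quadraticChar F).toMonoidHom).comp Matrix.GeneralLinearGroup.det)
  suffices h : ∀ (M : Matrix (Fin m) (Fin m) F), M.det ≠ 0 →
      ∀ u : GL (Fin m) F, (u : Matrix (Fin m) (Fin m) F) = M → χ u = ψ u by
    exact congrArg Units.val (h _ (Matrix.GeneralLinearGroup.det A).ne_zero A rfl)
  intro M hM
  apply Matrix.diagonal_transvection_induction_of_det_ne_zero
    (fun M => ∀ u : GL (Fin m) F, (u : Matrix (Fin m) (Fin m) F) = M → χ u = ψ u) M hM
  · intro d hd u hu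
    have hd' : ∀ i, d i ≠ 0 := by
      rw [Matrix.det_diagonal, Finset.prod_ne_zero_iff] at hd
      exact fun i => hd i (Finset.mem_univ i)
    have hu' : u = diagGL m fun i => Units.mk0 (d i) (hd' i) := Units.ext (by rw [hu]; rfl)
    have key : χ.comp (diagGL m) = ψ.comp (diagGL m) := by
      refine MonoidHom.pi_ext fun j t => ?_
      apply Units.ext
      show ((spinHom (qPlus_nondeg (F := F) m) h2 hn (leviHom m (diagGL m (Pi.mulSingle j t))) : ℤˣ) : ℤ) =
        quadraticChar F (Matrix.diagonal fun i => ((Pi.mulSingle (M := fun _ => Fˣ) j t i : Fˣ) : F)).det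
      have hQv : ∀ s : F, qPlus m
          (Pi.single (Sum.inl j) 1 - s • Pi.single (Sum.inr j) 1 : Fin m ⊕ Fin m → F) = -s := by
        intro s; simp [qPlus_apply, Pi.single_apply]
      have hdet : (Matrix.diagonal fun i => ((Pi.mulSingle (M := fun _ => Fˣ) j t i : Fˣ) : F)).det = t := by
        rw [Matrix.det_diagonal, Finset.prod_eq_single j (fun b _ hb => by simp [hb]) (by simp)]
        simp
      rw [hdet, leviHom_diagGL_single]
      have hiff := spinHom_oreflProd_eq_one_iff (qPlus_nondeg (F := F) m) h2 hn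
        [Pi.single (Sum.inl j) 1 - (↑t⁻¹ : F) • Pi.single (Sum.inr j) 1,
         Pi.single (Sum.inl j) 1 - (1 : F) • Pi.single (Sum.inr j) 1]
        (by
          intro v hv
          simp only [List.mem_cons, List.not_mem_nil, or_false] at hv
          rcases hv with rfl | rfl <;> rw [hQv] <;> simp)
      simp only [List.map_cons, List.map_nil, List.prod_cons, List.prod_nil, hQv, mul_one,
        neg_mul_neg] at hiff
      by_cases hs : IsSquare (t : F)
      · rw [hiff.2 (by simpa [isSquare_inv] using hs), (quadraticChar_one_iff_isSquare t.ne_zero).2 hs]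
        rfl
      · rw [(Int.units_eq_one_or ((spinHom (qPlus_nondeg (F := F) m) h2 hn) _)).resolve_left
          (fun e => hs (by simpa [isSquare_inv] using hiff.1 e)),
          (quadraticChar_neg_one_iff_not_isSquare (a := (t : F))).2 hs]
        rfl
    rw [hu']
    exact DFunLike.congr_fun key _
  · intro s u hu
    let s' : Matrix.TransvectionStruct (Fin m) F := ⟨s.i, s.j, s.hij, s.c * 2⁻¹⟩
    let w : GL (Fin m) F :=
      ⟨s'.toMatrix, s'.inv.toMatrix, s'.mul_inv, s'.inv_mul⟩
    have hw : u = w * w := by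
      apply Units.ext
      rw [Units.val_mul, hu]
      show Matrix.transvection s.i s.j s.c =
        Matrix.transvection s.i s.j (s.c * 2⁻¹) * Matrix.transvection s.i s.j (s.c * 2⁻¹)
      rw [Matrix.transvection_mul_transvection_same _ _ s.hij]
      congr 1
      field_simp
      ring
    rw [hw, map_mul, map_mul, Int.units_mul_self, Int.units_mul_self]
  · intro A B hA hB ihA ihB u hu
    let uA : GL (Fin m) F := Matrix.GeneralLinearGroup.mkOfDetNeZero A hA
    let uB : GL (Fin m) F := Matrix.GeneralLinearGroup.mkOfDetNeZero B hB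
    have : u = uA * uB := Units.ext (by rw [hu]; rfl)
    rw [this, map_mul, map_mul, ihA uA rfl, ihB uB rfl]

/-- `diag(A, A⁻ᵀ)` lies in `Ω` iff `det A` is a square. -/
theorem leviHom_mem_iff {m : ℕ} (hm : 1 ≤ m) (h : Fintype.card F ≠ 2 ∨ m ≠ 2) (A : GL (Fin m) F) :
    leviHom m A ∈ commutator (orth (qPlus (F := F) m)) ↔
      IsSquare (A : Matrix (Fin m) (Fin m) F).det := by
  classical
  have hn : 2 ≤ finrank F (Fin m ⊕ Fin m → F) := by rw [finrank_plusSpace]; omega
  by_cases h2 : (2 : F) = 0
  · refine iff_of_true ((mem_commutator_iff_two (qPlus_nondeg m) h2 hn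
      (exception_of_card (finrank_plusSpace m) (h.imp id fun h => by omega)) _).2
      (dickson_leviHom m A)) ?_
    refine FiniteField.isSquare_of_char_two ?_ _
    exact CharP.eq F (ringChar.charP F) (CharTwo.of_one_ne_zero_of_two_eq_zero one_ne_zero h2)
  · rw [mem_commutator_iff_spin (qPlus_nondeg m) h2 hn, and_iff_right (dickson_leviHom m A),
      ← Units.val_eq_one, coe_spinHom_leviHom hm h2 A,
      quadraticChar_one_iff_isSquare (show (A : Matrix (Fin m) (Fin m) F).det ≠ 0 from (Matrix.GeneralLinearGroup.det A).ne_zero)]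

end Cfsg.Agent.Lib.Orth52
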