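/-
The Dickson invariant is the parity of the intersection of a maximal totally singular subspace with its image.
-/
import Cfsg.Agent.Lib.Orth52.Rank

set_option autoImplicit false

namespace Cfsg.Agent.Lib.Orth52

open Module QuadraticMap
open Cfsg.Agent.Lib.Forms

variable {F : Type*} [Field F] {V : Type*} [AddCommGroup V] [Module F V] [FiniteDimensional F V]
  {Q : QuadraticForm F V}

theorem mem_orthogonal_iff' {W : Submodule F V} {x : V} :
    x ∈ LinearMap.BilinForm.orthogonal (polarBilin Q) W ↔ ∀ w ∈ W, polar Q w x = 0 := Iff.rfl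

theorem orthogonal_eq_self (hQ : Nondeg Q) {W : Submodule F V} (hW : ∀ w ∈ W, Q w = 0)
    (hd : 2 * finrank F W = finrank F V) : LinearMap.BilinForm.orthogonal (polarBilin Q) W = W := by
  have hle : W ≤ LinearMap.BilinForm.orthogonal (polarBilin Q) W :=
    fun x hx n hn => singular_polar hW hn hx
  refine (Submodule.eq_of_le_of_finrank_le hle ?_).symm
  rw [LinearMap.BilinForm.finrank_orthogonal hQ.polarBilin]
  omega

/-- Reflecting a maximal totally singular subspace changes the intersection with another one by exactly one. -/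
theorem finrank_inf_refl (hQ : Nondeg Q) {U W : Submodule F V} (hU : ∀ u ∈ U, Q u = 0)
    (hW : ∀ w ∈ W, Q w = 0) (hdU : 2 * finrank F U = finrank F V)
    (hdW : 2 * finrank F W = finrank F V) {v : V} (hv : Q v ≠ 0) :
    finrank F ↥(U ⊓ W.map (refl Q v).toLinearMap) = finrank F ↥(U ⊓ W) + 1 ∨
    finrank F ↥(U ⊓ W) = finrank F ↥(U ⊓ W.map (refl Q v).toLinearMap) + 1 := by
  have hWo := orthogonal_eq_self hQ hW hdW
  have hUo := orthogonal_eq_self hQ hU hdU
  have hvW : v ∉ W := fun h => hv (hW v h)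
  set W₀ := W ⊓ LinearMap.ker (polarBilin Q v) with hW₀
  have hmem₀ : ∀ {x}, x ∈ W₀ ↔ x ∈ W ∧ polar Q v x = 0 := Iff.rfl
  set W' := W.map (refl Q v).toLinearMap with hW'
  have hW'mem : ∀ {x}, x ∈ W' ↔ refl Q v x ∈ W := by
    intro x
    constructor
    · rintro ⟨y, hy, rfl⟩
      rw [LinearEquiv.coe_coe]
      have : refl Q v (refl Q v y) = y := reflMap_involutive Q v y
      rwa [this]
    · intro h
      exact ⟨refl Q v x, h, reflMap_involutive Q v x⟩
  -- the hyperplane `W₀`
  have hd₀ : finrank F W₀ + 1 = finrank F W := by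
    obtain ⟨w₁, hw₁, hp⟩ : ∃ w ∈ W, polar Q v w ≠ 0 := by
      by_contra hc
      push Not at hc
      exact hvW (hWo ▸ fun w hw => (polar_comm Q w v).trans (hc w hw))
    let f : W →ₗ[F] F := (polarBilin Q v).comp W.subtype
    have hf : LinearMap.range f = ⊤ := Module.Dual.range_eq_top_of_ne_zero
      (fun h0 => hp (LinearMap.congr_fun h0 ⟨w₁, hw₁⟩))
    have h := LinearMap.finrank_range_add_finrank_ker f
    rw [hf, finrank_top, Module.finrank_self] at h
    have hk : W₀ = (LinearMap.ker f).map W.subtype := by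
      ext x
      simp [hW₀, f, LinearMap.mem_ker, and_comm]
    rw [hk, Submodule.finrank_map_subtype_eq]
    omega
  have hW₀W : W₀ ≤ W := inf_le_left
  have hW₀W' : W₀ ≤ W' := fun x hx => hW'mem.2 (by rw [refl_fix Q (hmem₀.1 hx).2]; exact hW₀W hx)
  have hWW' : W ⊓ W' ≤ W₀ := by
    rintro x ⟨hx, hx'⟩
    refine hmem₀.2 ⟨hx, ?_⟩
    by_contra hp
    have h := W.sub_mem hx (hW'mem.1 hx')
    rw [refl_apply, sub_sub_cancel] at h
    exact hvW ((W.smul_mem_iff (mul_ne_zero (inv_ne_zero hv) hp)).1 h)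
  -- everything of `U` orthogonal to `W₀`
  set X := U ⊓ LinearMap.BilinForm.orthogonal (polarBilin Q) W₀ with hX
  have hXd : finrank F X = finrank F ↥(U ⊓ W₀) + 1 := by
    have e : X = LinearMap.BilinForm.orthogonal (polarBilin Q) (U ⊔ W₀) := by
      refine le_antisymm ?_ (le_inf ?_ (LinearMap.BilinForm.orthogonal_le le_sup_right))
      · rintro x ⟨hxU, hxW⟩
        intro y hy
        obtain ⟨u, hu, w, hw, rfl⟩ := Submodule.mem_sup.1 hy
        show polar Q (u + w) x = 0
        rw [polar_add_left, singular_polar hU hu hxU, show polar Q w x = 0 from hxW w hw, add_zero]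
      · exact (LinearMap.BilinForm.orthogonal_le le_sup_left).trans hUo.le
    have h1 := LinearMap.BilinForm.finrank_orthogonal hQ.polarBilin (W := U ⊔ W₀)
    rw [← e] at h1
    have h2 := Submodule.finrank_sup_add_finrank_inf_eq U W₀
    omega
  have hUW : U ⊓ W ≤ X := fun x hx => ⟨hx.1, fun w hw => singular_polar hW (hW₀W hw) hx.2⟩
  have hW's : ∀ w ∈ W', Q w = 0 := by
    rintro _ ⟨y, hy, rfl⟩
    rw [LinearEquiv.coe_coe, refl_mem Q v y, hW y hy]
  have hUW' : U ⊓ W' ≤ X := fun x hx => ⟨hx.1, fun w hw => singular_polar hW's (hW₀W' hw) hx.2⟩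
  have hcover : ∀ x ∈ X, x ∈ W ∨ x ∈ W' := by
    rintro x ⟨hxU, hxW⟩
    have hsup : W ⊔ (F ∙ v) = LinearMap.BilinForm.orthogonal (polarBilin Q) W₀ := by
      refine Submodule.eq_of_le_of_finrank_le (sup_le (fun y hy w hw => singular_polar hW (hW₀W hw) hy)
        ((Submodule.span_singleton_le_iff_mem _ _).2 fun w hw =>
          (polar_comm Q w v).trans (hmem₀.1 hw).2)) ?_
      rw [LinearMap.BilinForm.finrank_orthogonal hQ.polarBilin,
        Submodule.finrank_sup_span_singleton hvW]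
      omega
    rw [← hsup] at hxW
    obtain ⟨w, hw, y, hy, rfl⟩ := Submodule.mem_sup.1 hxW
    obtain ⟨a, rfl⟩ := Submodule.mem_span_singleton.1 hy
    have hq := hU _ hxU
    rw [Q_add, Q_smul, hW w hw, polar_smul_right, smul_eq_mul, zero_add] at hq
    rcases eq_or_ne a 0 with rfl | ha
    · left; simpa using hw
    · right
      refine ⟨w, hw, ?_⟩
      rw [LinearEquiv.coe_coe, refl_apply, polar_comm Q v w]
      have hp : polar Q w v = -(a * Q v) := mul_left_cancel₀ ha (by linear_combination hq)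
      rw [hp, sub_eq_add_neg, ← neg_smul]
      congr 2
      field_simp
  have hlt : ∀ A : Submodule F V, U ⊓ W₀ ≤ U ⊓ A → U ⊓ A ≤ X →
      finrank F ↥(U ⊓ A) = finrank F ↥(U ⊓ W₀) ∨ U ⊓ A = X := by
    intro A h1 h2
    have := Submodule.finrank_mono h1
    rcases Nat.lt_or_ge (finrank F ↥(U ⊓ A)) (finrank F X) with h | h
    · left; omega
    · exact Or.inr (Submodule.eq_of_le_of_finrank_le h2 h)
  have hnot : ¬ X ≤ W₀ := fun h => by
    have h1 : finrank F X ≤ finrank F ↥(U ⊓ W₀) := Submodule.finrank_mono (le_inf (inf_le_left : X ≤ U) h)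
    omega
  rcases hlt W (inf_le_inf_left _ hW₀W) hUW with h | h <;>
    rcases hlt W' (inf_le_inf_left _ hW₀W') hUW' with h' | h'
  · exfalso
    have e1 : U ⊓ W₀ = U ⊓ W := Submodule.eq_of_le_of_finrank_le (inf_le_inf_left _ hW₀W) h.le
    have e2 : U ⊓ W₀ = U ⊓ W' := Submodule.eq_of_le_of_finrank_le (inf_le_inf_left _ hW₀W') h'.le
    refine hnot fun x hx => ?_
    rcases hcover x hx with hw | hw
    · exact ((e1 ▸ (⟨hx.1, hw⟩ : x ∈ U ⊓ W)) : x ∈ U ⊓ W₀).2
    · exact ((e2 ▸ (⟨hx.1, hw⟩ : x ∈ U ⊓ W')) : x ∈ U ⊓ W₀).2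
  · left; rw [h', hXd, h]
  · right; rw [h', h, hXd]
  · exfalso
    exact hnot ((le_inf (h.ge.trans inf_le_right) (h'.ge.trans inf_le_right)).trans hWW')

/-- Parity of intersections with maximal totally singular subspaces. -/
theorem finrank_inf_map_eq [Finite F] (hQ : Nondeg Q) (h : (∃ a : F, a ≠ 0 ∧ a ≠ 1) ∨ finrank F V ≠ 4)
    {U W : Submodule F V} (hU : ∀ u ∈ U, Q u = 0) (hdU : 2 * finrank F U = finrank F V)
    (hW : ∀ w ∈ W, Q w = 0) (hdW : 2 * finrank F W = finrank F V) (g : orth Q) :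
    ((finrank F ↥(U ⊓ W.map g.1.toLinearMap) : ℕ) : ZMod 2) =
      (finrank F ↥(U ⊓ W) : ZMod 2) + dickson Q g := by
  have hg : g ∈ Subgroup.closure (reflSet Q) := by rw [closure_reflSet hQ h]; trivial
  have hhom : ∀ (a : orth Q) (W : Submodule F V), (∀ w ∈ W, Q w = 0) →
      2 * finrank F W = finrank F V → (∀ w ∈ W.map a.1.toLinearMap, Q w = 0) ∧
        2 * finrank F ↥(W.map a.1.toLinearMap) = finrank F V := by
    intro a W hW hdW
    refine ⟨?_, by rw [LinearEquiv.finrank_map_eq]; exact hdW⟩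
    rintro _ ⟨y, hy, rfl⟩
    rw [LinearEquiv.coe_coe, a.2 y, hW y hy]
  induction hg using Subgroup.closure_induction generalizing W with
  | mem x hx =>
    obtain ⟨v, hv, rfl⟩ := hx
    rw [dickson_orefl hQ hv]
    rcases finrank_inf_refl hQ hU hW hdU hdW hv with e | e
    · show ((finrank F ↥(U ⊓ W.map (refl Q v).toLinearMap) : ℕ) : ZMod 2) = _
      rw [e, Nat.cast_add, Nat.cast_one]
    · show ((finrank F ↥(U ⊓ W.map (refl Q v).toLinearMap) : ℕ) : ZMod 2) = _
      rw [e, Nat.cast_add, Nat.cast_one, add_assoc, CharTwo.add_self_eq_zero, add_zero]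
  | one =>
    rw [dickson_one, add_zero]
    have : W.map (1 : orth Q).1.toLinearMap = W := Submodule.map_id W
    rw [this]
  | mul x y _ _ ihx ihy =>
    have e : W.map (x * y).1.toLinearMap = (W.map y.1.toLinearMap).map x.1.toLinearMap := by
      rw [← Submodule.map_comp]; rfl
    rw [e, ihx (hhom y W hW hdW).1 (hhom y W hW hdW).2, ihy hW hdW, dickson_mul hQ h]
    abel
  | inv x _ ihx =>
    have hh := ihx (hhom x⁻¹ W hW hdW).1 (hhom x⁻¹ W hW hdW).2
    have e : (W.map (x⁻¹).1.toLinearMap).map x.1.toLinearMap = W := by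
      rw [← Submodule.map_comp]
      have : (x.1.toLinearMap ∘ₗ (x⁻¹).1.toLinearMap) = LinearMap.id :=
        LinearMap.ext fun v => x.1.apply_symm_apply v
      rw [this, Submodule.map_id]
    rw [e] at hh
    have e2 : dickson Q x⁻¹ = dickson Q x := by
      have h1 := dickson_mul hQ h x⁻¹ x
      rw [inv_mul_cancel, dickson_one] at h1
      exact (CharTwo.add_eq_zero.1 h1.symm)
    rw [e2, hh, add_assoc, CharTwo.add_self_eq_zero, add_zero]

/-- The Dickson invariant from one maximal totally singular subspace. -/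
theorem dickson_eq_parity [Finite F] (hQ : Nondeg Q) (h : (∃ a : F, a ≠ 0 ∧ a ≠ 1) ∨ finrank F V ≠ 4)
    {U : Submodule F V} (hU : ∀ u ∈ U, Q u = 0) (hdU : 2 * finrank F U = finrank F V) (g : orth Q) :
    dickson Q g = ((finrank F U - finrank F ↥(U ⊓ U.map g.1.toLinearMap) : ℕ) : ZMod 2) := by
  have h1 := finrank_inf_map_eq hQ h hU hdU hU hdU g
  rw [inf_idem] at h1
  rw [Nat.cast_sub (Submodule.finrank_mono inf_le_left), CharTwo.sub_eq_add, h1, ← add_assoc,
    CharTwo.add_self_eq_zero, zero_add]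

end Cfsg.Agent.Lib.Orth52
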