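/-
The two classes of maximal totally singular subspaces of the hyperbolic form.
-/
import Cfsg.Agent.Lib.Orth52.MaxSingular
import Cfsg.Agent.Lib.Orth52.LeviHom

set_option autoImplicit false

namespace Cfsg.Agent.Lib.Orth52

open Module QuadraticMap
open Cfsg.Agent.Lib.Forms
open scoped Matrix

variable {F : Type*} [Field F]

/-- The standard maximal totally singular subspace `{y = 0}`. -/
abbrev stdU (F : Type*) [Field F] (m : ℕ) : Submodule F (Fin m ⊕ Fin m → F) :=
  LinearMap.ker (LinearMap.funLeft F F (Sum.inr : Fin m → Fin m ⊕ Fin m))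

theorem mem_stdU {m : ℕ} {v : Fin m ⊕ Fin m → F} : v ∈ stdU F m ↔ ∀ i, v (Sum.inr i) = 0 := by
  simp [stdU, LinearMap.mem_ker, funext_iff, LinearMap.funLeft_apply]

theorem finrank_stdU (m : ℕ) : finrank F (stdU F m) = m := by
  have h := LinearMap.finrank_range_add_finrank_ker
    (LinearMap.funLeft F F (Sum.inr : Fin m → Fin m ⊕ Fin m))
  rw [LinearMap.range_eq_top.2 (LinearMap.funLeft_surjective_of_injective _ _ _ Sum.inr_injective),
    finrank_top, Module.finrank_fintype_fun_eq_card, finrank_plusSpace, Fintype.card_fin] at h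
  change m + finrank F (stdU F m) = 2 * m at h
  omega

theorem stdU_singular {m : ℕ} : ∀ u ∈ stdU F m, qPlus (F := F) m u = 0 := fun u hu => by
  rw [qPlus_apply]
  exact Finset.sum_eq_zero fun i _ => by rw [mem_stdU.1 hu i, mul_zero]

theorem two_mul_finrank_stdU (m : ℕ) :
    2 * finrank F (stdU F m) = finrank F (Fin m ⊕ Fin m → F) := by
  rw [finrank_stdU, finrank_plusSpace]

/-- The coordinate interchange. -/
def swapOrth (m : ℕ) : orth (qPlus (F := F) m) :=
  ⟨LinearEquiv.funCongrLeft F F (Equiv.sumComm (Fin m) (Fin m)), fun v => by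
    rw [qPlus_apply, qPlus_apply]
    exact Finset.sum_congr rfl fun i _ => mul_comm _ _⟩

theorem swapOrth_apply (m : ℕ) (v : Fin m ⊕ Fin m → F) (k : Fin m ⊕ Fin m) :
    (swapOrth (F := F) m).1 v k = v k.swap := rfl

theorem inf_map_eq_bot {m : ℕ} (g : orth (qPlus (F := F) m))
    (h : ∀ v : Fin m ⊕ Fin m → F, (∀ i, v (Sum.inr i) = 0) → ∀ i, g.1 v (Sum.inl i) = 0) :
    stdU F m ⊓ (stdU F m).map g.1.toLinearMap = ⊥ := by
  rw [Submodule.eq_bot_iff]
  rintro _ ⟨hx, v, hv, rfl⟩
  funext k
  rcases k with i | i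
  · exact h v (mem_stdU.1 hv) i
  · exact mem_stdU.1 hx i

variable [Fintype F]

theorem dickson_plus_parity {m : ℕ} (h : Fintype.card F ≠ 2 ∨ m ≠ 2) (g : orth (qPlus (F := F) m)) :
    dickson (qPlus (F := F) m) g =
      ((m - finrank F ↥(stdU F m ⊓ (stdU F m).map g.1.toLinearMap) : ℕ) : ZMod 2) := by
  have := dickson_eq_parity (qPlus_nondeg m)
    (exception_of_card (finrank_plusSpace m) (h.imp id fun h => by omega)) (stdU_singular (m := m))
    (two_mul_finrank_stdU m) g
  rwa [finrank_stdU] at this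

theorem swapOrth_mem {m : ℕ} (hm : 1 ≤ m) (h : Fintype.card F ≠ 2 ∨ m ≠ 2) (he : Even m) :
    swapOrth m ∈ commutator (orth (qPlus (F := F) m)) := by
  have hn : 2 ≤ finrank F (Fin m ⊕ Fin m → F) := by rw [finrank_plusSpace]; omega
  have hd : dickson (qPlus (F := F) m) (swapOrth m) = 0 := by
    rw [dickson_plus_parity h, inf_map_eq_bot _ fun v hv i => hv i, finrank_bot, Nat.sub_zero]
    exact ZMod.natCast_eq_zero_iff_even.2 he
  by_cases h2 : (2 : F) = 0
  · exact (mem_commutator_iff_two (qPlus_nondeg m) h2 hn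
      (exception_of_card (finrank_plusSpace m) (h.imp id fun h => by omega)) _).2 hd
  · let N : Fin m → (Fin m ⊕ Fin m → F) := fun j => Pi.single (Sum.inl j) 1 - Pi.single (Sum.inr j) 1
    have hQ : ∀ j, qPlus m (N j) = -1 := fun j => by simp [N, qPlus_apply, Pi.single_apply]
    have hvs : ∀ v ∈ List.ofFn N, qPlus m v ≠ 0 := by
      intro v hv
      obtain ⟨j, rfl⟩ := List.mem_ofFn.1 hv
      rw [hQ]; exact neg_ne_zero.2 one_ne_zero
    have horth : (List.ofFn N).Pairwise fun v w => polar (⇑(qPlus (F := F) m)) v w = 0 :=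
      List.pairwise_ofFn.2 fun i j hij => by
        simp [N, qPlus_polar, Pi.single_apply, hij.ne, hij.ne']
    have key : ∀ i, (oreflProd (qPlus m) (List.ofFn N)).1 (N i) = -N i := fun i =>
      oreflProd_neg _ hvs horth (List.mem_ofFn.2 ⟨i, rfl⟩)
    have key2 : ∀ i, (oreflProd (qPlus m) (List.ofFn N)).1
        (Pi.single (Sum.inl i) 1 + Pi.single (Sum.inr i) 1) =
          Pi.single (Sum.inl i) 1 + Pi.single (Sum.inr i) 1 := fun i => by
      refine oreflProd_fix _ fun v hv => ?_
      obtain ⟨j, rfl⟩ := List.mem_ofFn.1 hv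
      rcases eq_or_ne j i with rfl | hji
      · simp [N, qPlus_polar, qPlus_apply, Pi.single_apply]
      · simp [N, qPlus_polar, Pi.single_apply, hji, hji.symm]
    have he' : oreflProd (qPlus m) (List.ofFn N) = swapOrth m := by
      apply Subtype.ext
      refine LinearEquiv.toLinearMap_injective ((Pi.basisFun F _).ext fun k => ?_)
      rw [Pi.basisFun_apply, LinearEquiv.coe_coe, LinearEquiv.coe_coe]
      have hsw : (swapOrth (F := F) m).1 (Pi.single k (1 : F)) = Pi.single k.swap 1 := by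
        funext k'
        rw [swapOrth_apply, Pi.single_apply, Pi.single_apply]
        refine if_congr ⟨fun h => ?_, fun h => ?_⟩ rfl rfl
        · rw [← h, Sum.swap_swap]
        · rw [h, Sum.swap_swap]
      rw [hsw]
      obtain ⟨i, hi⟩ : ∃ i, k = Sum.inl i ∨ k = Sum.inr i := by
        rcases k with i | i
        · exact ⟨i, Or.inl rfl⟩
        · exact ⟨i, Or.inr rfl⟩
      have a := key i
      have b := key2 i
      simp only [N, map_sub] at a
      rw [map_add] at b
      rcases hi with rfl | rfl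
      · apply smul_right_injective (Fin m ⊕ Fin m → F) h2
        dsimp only
        rw [two_smul, two_smul]
        linear_combination (norm := (simp only [Sum.swap_inl]; abel)) a + b
      · apply smul_right_injective (Fin m ⊕ Fin m → F) h2
        dsimp only
        rw [two_smul, two_smul]
        linear_combination (norm := (simp only [Sum.swap_inr]; abel)) b - a
    rw [← he', oreflProd_mem_commutator_iff (qPlus_nondeg m) h2 hn _ hvs]
    refine ⟨by simpa using he, ?_⟩
    simp only [List.map_ofFn, List.prod_ofFn, Function.comp_def, hQ]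
    simp [he.neg_one_pow]

/-- Transitivity of `Ω` on each class. -/
theorem exists_map_eq {m : ℕ} (hm : 1 ≤ m) (h : Fintype.card F ≠ 2 ∨ m ≠ 2)
    {U W : Submodule F (Fin m ⊕ Fin m → F)} (hU : finrank F U = m) (hW : finrank F W = m)
    (hU0 : ∀ u ∈ U, qPlus m u = 0) (hW0 : ∀ w ∈ W, qPlus m w = 0)
    (he : Even (m - finrank F ↥(U ⊓ W))) :
    ∃ g ∈ commutator (orth (qPlus (F := F) m)), U.map g.1.toLinearMap = W := by
  classical
  have hQ := qPlus_nondeg (F := F) m
  have hn : 2 ≤ finrank F (Fin m ⊕ Fin m → F) := by rw [finrank_plusSpace]; omega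
  have hex := exception_of_card (finrank_plusSpace (F := F) m) (h.imp id fun h => by omega)
  obtain ⟨g, hg, hle⟩ := exists_orth_map_le hQ U W hU0 hW0 (by omega)
  have hgU : U.map (⟨g, hg⟩ : orth (qPlus m)).1.toLinearMap = W :=
    Submodule.eq_of_le_of_finrank_le hle (by rw [LinearEquiv.finrank_map_eq]; omega)
  have hd : dickson (qPlus m) ⟨g, hg⟩ = 0 := by
    have := finrank_inf_map_eq hQ hex hW0 (by rw [finrank_plusSpace]; omega) hU0
      (by rw [finrank_plusSpace]; omega) ⟨g, hg⟩
    rw [hgU, inf_idem, hW, inf_comm] at this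
    have hz : ((m - finrank F ↥(U ⊓ W) : ℕ) : ZMod 2) = 0 := ZMod.natCast_eq_zero_iff_even.2 he
    have hle3 : finrank F ↥(U ⊓ W) ≤ m := (Submodule.finrank_mono inf_le_left).trans hU.le
    rw [Nat.cast_sub hle3, sub_eq_zero] at hz
    rw [hz] at this
    simpa using this
  by_cases h2 : (2 : F) = 0
  · exact ⟨_, (mem_commutator_iff_two hQ h2 hn hex _).2 hd, hgU⟩
  by_cases hs : spinHom hQ h2 hn ⟨g, hg⟩ = 1
  · exact ⟨_, (mem_commutator_iff_spin hQ h2 hn _).2 ⟨hd, hs⟩, hgU⟩
  obtain ⟨ν, hν⟩ := exists_nonsq h2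
  have hν0 : ν ≠ 0 := fun h => hν (h ▸ IsSquare.zero)
  let A : GL (Fin m) F := diagGL m (Pi.mulSingle ⟨0, hm⟩ (Units.mk0 ν hν0))
  have hAdet : (A : Matrix (Fin m) (Fin m) F).det = ν := by
    show (Matrix.diagonal fun i => ((Pi.mulSingle (M := fun _ => Fˣ) (⟨0, hm⟩ : Fin m) (Units.mk0 ν hν0) i : Fˣ) : F)).det = ν
    rw [Matrix.det_diagonal, Finset.prod_eq_single ⟨0, hm⟩ (fun b _ hb => by simp [hb]) (by simp)]
    simp
  have hAspin : spinHom hQ h2 hn (leviHom m A) = -1 := by
    apply Units.ext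
    rw [coe_spinHom_leviHom hm h2, hAdet, quadraticChar_neg_one_iff_not_isSquare.2 hν]
    rfl
  have hAU : (stdU F m).map (leviHom m A).1.toLinearMap = stdU F m := by
    refine Submodule.eq_of_le_of_finrank_le ?_ (by rw [LinearEquiv.finrank_map_eq])
    rintro _ ⟨v, hv, rfl⟩
    rw [mem_stdU]
    intro i
    have hv' : v ∘ Sum.inr = 0 := funext (mem_stdU.1 hv)
    rw [LinearEquiv.coe_coe, leviHom_apply, leviMat, Matrix.fromBlocks_mulVec]
    simp [hv']
  obtain ⟨c, hc, hle'⟩ := exists_orth_map_le hQ (stdU F m) U stdU_singular hU0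
    (by rw [finrank_stdU, hU])
  let c' : orth (qPlus (F := F) m) := ⟨c, hc⟩
  have hcU : (stdU F m).map c'.1.toLinearMap = U :=
    Submodule.eq_of_le_of_finrank_le hle' (by rw [LinearEquiv.finrank_map_eq, finrank_stdU, hU])
  refine ⟨⟨g, hg⟩ * (c' * leviHom m A * c'⁻¹), (mem_commutator_iff_spin hQ h2 hn _).2 ⟨?_, ?_⟩, ?_⟩
  · rw [dickson_mul hQ hex, dickson_mul hQ hex, dickson_mul hQ hex, hd, dickson_leviHom, add_zero,
      zero_add, ← dickson_mul hQ hex, mul_inv_cancel, dickson_one]
  · rw [map_mul, map_mul, map_mul, (Int.units_eq_one_or _).resolve_left hs, hAspin, map_inv]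
    rw [mul_comm (spinHom hQ h2 hn c'), mul_inv_cancel_right]
    decide
  · have e : ∀ a b : orth (qPlus (F := F) m), ∀ X : Submodule F (Fin m ⊕ Fin m → F),
        X.map (a * b).1.toLinearMap = (X.map b.1.toLinearMap).map a.1.toLinearMap :=
      fun a b X => by rw [← Submodule.map_comp]; rfl
    have hinv : U.map (c'⁻¹).1.toLinearMap = stdU F m := by
      rw [← hcU, ← e, inv_mul_cancel]; exact Submodule.map_id _
    rw [e, e, e, hinv, hAU, hcU, hgU]

end Cfsg.Agent.Lib.Orth52
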