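/-
The orthogonal sum of two quadratic forms on coordinate spaces: reflections and characters.
-/
import Cfsg.Agent.Lib.Orth52.Rank
import Cfsg.Agent.Lib.Orth52.Sum

set_option autoImplicit false

namespace Cfsg.Agent.Lib.Orth52

open Module QuadraticMap
open Cfsg.Agent.Lib.Forms
open scoped Matrix

variable {F : Type*} [Field F] {ι κ : Type} [Fintype ι] [DecidableEq ι] [Fintype κ] [DecidableEq κ]

/-- The orthogonal sum as a quadratic form. -/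
def sumQuad (Q₁ : QuadraticForm F (ι → F)) (Q₂ : QuadraticForm F (κ → F)) :
    QuadraticForm F (ι ⊕ κ → F) :=
  Q₁.comp (LinearMap.funLeft F F Sum.inl) + Q₂.comp (LinearMap.funLeft F F Sum.inr)

theorem sumQuad_apply (Q₁ : QuadraticForm F (ι → F)) (Q₂ : QuadraticForm F (κ → F))
    (v : ι ⊕ κ → F) : sumQuad Q₁ Q₂ v = Q₁ (v ∘ Sum.inl) + Q₂ (v ∘ Sum.inr) := rfl

theorem sumForm_eq (Q₁ : QuadraticForm F (ι → F)) (Q₂ : QuadraticForm F (κ → F))
    (v : ι ⊕ κ → F) : sumForm (⇑Q₁) (⇑Q₂) v = sumQuad Q₁ Q₂ v := rfl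

theorem sumQuad_polar (Q₁ : QuadraticForm F (ι → F)) (Q₂ : QuadraticForm F (κ → F))
    (u v : ι ⊕ κ → F) : polar (sumQuad Q₁ Q₂) u v =
      polar Q₁ (u ∘ Sum.inl) (v ∘ Sum.inl) + polar Q₂ (u ∘ Sum.inr) (v ∘ Sum.inr) := by
  simp only [polar, sumQuad_apply, Pi.add_comp]
  ring

theorem sumQuad_nondeg {Q₁ : QuadraticForm F (ι → F)} {Q₂ : QuadraticForm F (κ → F)}
    (h₁ : Nondeg Q₁) (h₂ : Nondeg Q₂) : Nondeg (sumQuad Q₁ Q₂) := by
  intro x hx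
  have a : x ∘ Sum.inl = 0 := h₁ _ fun y => by
    have := hx (Sum.elim y 0); rw [sumQuad_polar] at this; simpa using this
  have b : x ∘ Sum.inr = 0 := h₂ _ fun y => by
    have := hx (Sum.elim 0 y); rw [sumQuad_polar] at this; simpa using this
  funext k
  rcases k with k | k
  · exact congrFun a k
  · exact congrFun b k

theorem finrank_sumSpace : finrank F (ι ⊕ κ → F) = finrank F (ι → F) + finrank F (κ → F) := by
  simp [Module.finrank_fintype_fun_eq_card]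

/-- The block embedding at the level of orthogonal groups. -/
noncomputable def sumOrth (Q₁ : QuadraticForm F (ι → F)) (Q₂ : QuadraticForm F (κ → F)) :
    orth Q₁ × orth Q₂ →* orth (sumQuad Q₁ Q₂) :=
  ((isoOrth (sumQuad Q₁ Q₂) (sumForm_eq Q₁ Q₂)).toMonoidHom.comp
    (sumHom (⇑Q₁) (⇑Q₂))).comp
      ((isoOrth Q₁ (fun _ => rfl)).symm.toMonoidHom.prodMap (isoOrth Q₂ (fun _ => rfl)).symm.toMonoidHom)

theorem isoOrth_sumHom (Q₁ : QuadraticForm F (ι → F)) (Q₂ : QuadraticForm F (κ → F))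
    (g₁ : Cfsg.isometryGroup F (⇑Q₁)) (g₂ : Cfsg.isometryGroup F (⇑Q₂)) :
    isoOrth (sumQuad Q₁ Q₂) (sumForm_eq Q₁ Q₂) (sumHom (⇑Q₁) (⇑Q₂) (g₁, g₂)) =
      sumOrth Q₁ Q₂ (isoOrth Q₁ (fun _ => rfl) g₁, isoOrth Q₂ (fun _ => rfl) g₂) := by
  simp [sumOrth]

theorem sumOrth_apply (Q₁ : QuadraticForm F (ι → F)) (Q₂ : QuadraticForm F (κ → F))
    (o₁ : orth Q₁) (o₂ : orth Q₂) (v : ι ⊕ κ → F) :
    (sumOrth Q₁ Q₂ (o₁, o₂)).1 v = Sum.elim (o₁.1 (v ∘ Sum.inl)) (o₂.1 (v ∘ Sum.inr)) := by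
  obtain ⟨g₁, rfl⟩ := (isoOrth Q₁ (fun _ => rfl)).surjective o₁
  obtain ⟨g₂, rfl⟩ := (isoOrth Q₂ (fun _ => rfl)).surjective o₂
  rw [← isoOrth_sumHom, isoOrth_apply (sumQuad Q₁ Q₂), coe_sumHom, Matrix.fromBlocks_mulVec]
  simp [isoOrth_apply]

theorem sumOrth_orefl_left (Q₁ : QuadraticForm F (ι → F)) (Q₂ : QuadraticForm F (κ → F))
    (z : ι → F) : sumOrth Q₁ Q₂ (orefl Q₁ z, 1) = orefl (sumQuad Q₁ Q₂) (Sum.elim z 0) := by
  apply Subtype.ext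
  ext v k
  rw [sumOrth_apply]
  show Sum.elim (refl Q₁ z (v ∘ Sum.inl)) (v ∘ Sum.inr) k = refl (sumQuad Q₁ Q₂) (Sum.elim z 0) v k
  rw [refl_apply, refl_apply, sumQuad_polar, sumQuad_apply]
  rcases k with k | k <;> simp

theorem sumOrth_orefl_right (Q₁ : QuadraticForm F (ι → F)) (Q₂ : QuadraticForm F (κ → F))
    (z : κ → F) : sumOrth Q₁ Q₂ (1, orefl Q₂ z) = orefl (sumQuad Q₁ Q₂) (Sum.elim 0 z) := by
  apply Subtype.ext
  ext v k
  rw [sumOrth_apply]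
  show Sum.elim (v ∘ Sum.inl) (refl Q₂ z (v ∘ Sum.inr)) k = refl (sumQuad Q₁ Q₂) (Sum.elim 0 z) v k
  rw [refl_apply, refl_apply, sumQuad_polar, sumQuad_apply]
  rcases k with k | k <;> simp

theorem dickson_sumOrth (Q₁ : QuadraticForm F (ι → F)) (Q₂ : QuadraticForm F (κ → F))
    (o₁ : orth Q₁) (o₂ : orth Q₂) :
    dickson (sumQuad Q₁ Q₂) (sumOrth Q₁ Q₂ (o₁, o₂)) = dickson Q₁ o₁ + dickson Q₂ o₂ := by
  obtain ⟨g₁, rfl⟩ := (isoOrth Q₁ (fun _ => rfl)).surjective o₁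
  obtain ⟨g₂, rfl⟩ := (isoOrth Q₂ (fun _ => rfl)).surjective o₂
  rw [← isoOrth_sumHom, dickson_isoOrth (sumQuad Q₁ Q₂), coe_sumHom, dickson_isoOrth Q₁, dickson_isoOrth Q₂,
    ← Matrix.fromBlocks_one, sub_eq_add_neg, Matrix.fromBlocks_neg, Matrix.fromBlocks_add]
  simp only [neg_zero, add_zero, ← sub_eq_add_neg, rank_fromBlocks_diag, Nat.cast_add]

variable [Finite F]

theorem spinHom_sumOrth_left {Q₁ : QuadraticForm F (ι → F)} {Q₂ : QuadraticForm F (κ → F)}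
    (h₁ : Nondeg Q₁) (h₂ : Nondeg Q₂) (h : (2 : F) ≠ 0) (hn₁ : 2 ≤ finrank F (ι → F))
    (hn : 2 ≤ finrank F (ι ⊕ κ → F)) (o : orth Q₁) :
    spinHom (sumQuad_nondeg h₁ h₂) h hn (sumOrth Q₁ Q₂ (o, 1)) = spinHom h₁ h hn₁ o := by
  have hm : o ∈ Subgroup.closure (reflSet Q₁) := by
    rw [closure_reflSet h₁ (Or.inl (exists_ne01 h))]; trivial
  show ((spinHom (sumQuad_nondeg h₁ h₂) h hn).comp ((sumOrth Q₁ Q₂).comp (MonoidHom.inl _ _))) o = _
  refine MonoidHom.eqOn_closure ?_ hm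
  rintro _ ⟨z, hz, rfl⟩
  show spinHom (sumQuad_nondeg h₁ h₂) h hn (sumOrth Q₁ Q₂ (orefl Q₁ z, 1)) = spinHom h₁ h hn₁ (orefl Q₁ z)
  rw [sumOrth_orefl_left]
  have hz' : sumQuad Q₁ Q₂ (Sum.elim z 0) = Q₁ z := by simp [sumQuad_apply]
  have e : spinHom (sumQuad_nondeg h₁ h₂) h hn (orefl (sumQuad Q₁ Q₂) (Sum.elim z 0)) = 1 ↔
      spinHom h₁ h hn₁ (orefl Q₁ z) = 1 := by
    rw [spinHom_orefl_eq_one_iff _ h hn (by rw [hz']; exact hz), spinHom_orefl_eq_one_iff h₁ h hn₁ hz, hz']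
  rcases Int.units_eq_one_or (spinHom h₁ h hn₁ (orefl Q₁ z)) with e' | e'
  · rw [e', e.2 e']
  · rw [e', (Int.units_eq_one_or (spinHom (sumQuad_nondeg h₁ h₂) h hn (orefl (sumQuad Q₁ Q₂) (Sum.elim z 0)))).resolve_left fun e'' => by
      have := e.1 e''; rw [e'] at this; exact absurd this (by decide)]

theorem spinHom_sumOrth_diag {Q : QuadraticForm F (ι → F)} (hQ : Nondeg Q) (h : (2 : F) ≠ 0)
    (hn : 2 ≤ finrank F (ι ⊕ ι → F)) (o : orth Q) :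
    spinHom (sumQuad_nondeg hQ hQ) h hn (sumOrth Q Q (o, o)) = 1 := by
  have hsplit : (o, o) = MonoidHom.inl (orth Q) (orth Q) o * MonoidHom.inr (orth Q) (orth Q) o := by simp
  rw [hsplit, map_mul, map_mul]
  have hm : o ∈ Subgroup.closure (reflSet Q) := by
    rw [closure_reflSet hQ (Or.inl (exists_ne01 h))]; trivial
  have key : spinHom (sumQuad_nondeg hQ hQ) h hn (sumOrth Q Q (MonoidHom.inl (orth Q) (orth Q) o)) =
      spinHom (sumQuad_nondeg hQ hQ) h hn (sumOrth Q Q (MonoidHom.inr (orth Q) (orth Q) o)) := by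
    show ((spinHom (sumQuad_nondeg hQ hQ) h hn).comp ((sumOrth Q Q).comp (MonoidHom.inl _ _))) o =
      ((spinHom (sumQuad_nondeg hQ hQ) h hn).comp ((sumOrth Q Q).comp (MonoidHom.inr _ _))) o
    refine MonoidHom.eqOn_closure ?_ hm
    rintro _ ⟨z, hz, rfl⟩
    show spinHom _ h hn (sumOrth Q Q (orefl Q z, 1)) = spinHom _ h hn (sumOrth Q Q (1, orefl Q z))
    rw [sumOrth_orefl_left, sumOrth_orefl_right]
    refine levelSign_eq_of ?_ ?_
    · simpa [sumQuad_apply] using hz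
    · simp [sumQuad_apply]
  rw [key, Int.units_mul_self]
where
  levelSign_eq_of {V : Type _} [AddCommGroup V] [Module F V] [FiniteDimensional F V] [Finite V]
      {q : QuadraticForm F V} {hq : Nondeg q} {h' : (2 : F) ≠ 0} {hn' : 2 ≤ finrank F V} {a b : V}
      (ha : q a ≠ 0) (hab : q b = q a) :
      spinHom hq h' hn' (orefl q a) = spinHom hq h' hn' (orefl q b) := by
    obtain ⟨g, hg⟩ := orefl_conj_of_eq hq ha one_ne_zero (w := b) (by rw [one_mul, one_mul, hab])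
    rw [← hg, map_mul, map_mul, map_inv, mul_comm (spinHom hq h' hn' g), mul_inv_cancel_right]

end Cfsg.Agent.Lib.Orth52
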