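/-
Transitivity of the commutator subgroup of a finite orthogonal group on subspaces.
-/
import Cfsg.Agent.Lib.Orth52.Rank

set_option autoImplicit false

namespace Cfsg.Agent.Lib.Orth52

open Module QuadraticMap
open Cfsg.Agent.Lib.Forms

variable {F : Type*} [Field F] [Finite F] {V : Type*} [AddCommGroup V] [Module F V]
  [FiniteDimensional F V] {Q : QuadraticForm F V}

theorem dickson_inv_zero (hQ : Nondeg Q) (h : (∃ a : F, a ≠ 0 ∧ a ≠ 1) ∨ finrank F V ≠ 4)
    (x : orth Q) : dickson Q x⁻¹ = dickson Q x := by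
  have h1 := dickson_mul hQ h x⁻¹ x
  rw [inv_mul_cancel, dickson_one] at h1
  exact CharTwo.add_eq_zero.1 h1.symm

/-- Adjusting an isometry by a stabiliser into the commutator subgroup. -/
theorem exists_commutator_adjust (hQ : Nondeg Q) (hn : 2 ≤ finrank F V)
    (h : (∃ a : F, a ≠ 0 ∧ a ≠ 1) ∨ finrank F V ≠ 4) (U : Submodule F V)
    (hrefl : ∃ z, Q z ≠ 0 ∧ U.map (refl Q z).toLinearMap ≤ U)
    (hsep : (2 : F) ≠ 0 → ∃ z w, Q z ≠ 0 ∧ Q w ≠ 0 ∧ ¬ IsSquare (Q z * Q w) ∧
      U.map ((refl Q z) * (refl Q w)).toLinearMap ≤ U)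
    (g : orth Q) :
    ∃ g' ∈ commutator (orth Q), U.map g'.1.toLinearMap = U.map g.1.toLinearMap := by
  have := Module.finite_of_finite F (M := V)
  have e : ∀ a b : orth Q, U.map b.1.toLinearMap ≤ U →
      U.map (a * b).1.toLinearMap = U.map a.1.toLinearMap := fun a b hb => by
    have : U.map (a * b).1.toLinearMap = (U.map b.1.toLinearMap).map a.1.toLinearMap := by
      rw [← Submodule.map_comp]; rfl
    rw [this, Submodule.eq_of_le_of_finrank_le hb (by rw [LinearEquiv.finrank_map_eq])]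
  obtain ⟨z, hz, hzU⟩ := hrefl
  obtain ⟨g₁, hd, hgU⟩ : ∃ g₁ : orth Q, dickson Q g₁ = 0 ∧
      U.map g₁.1.toLinearMap = U.map g.1.toLinearMap := by
    by_cases h0 : dickson Q g = 0
    · exact ⟨g, h0, rfl⟩
    · refine ⟨g * orefl Q z, ?_, e g _ hzU⟩
      rw [dickson_mul_orefl hQ g hz]
      revert h0; generalize dickson Q g = x; revert x; decide
  by_cases h2 : (2 : F) = 0
  · exact ⟨g₁, (mem_commutator_iff_two hQ h2 hn h g₁).2 hd, hgU⟩
  by_cases hs : spinHom hQ h2 hn g₁ = 1
  · exact ⟨g₁, (mem_commutator_iff_spin hQ h2 hn g₁).2 ⟨hd, hs⟩, hgU⟩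
  obtain ⟨z', w', hz', hw', hns, hzwU⟩ := hsep h2
  have hsp : spinHom hQ h2 hn (oreflProd Q [z', w']) = -1 := by
    refine (Int.units_eq_one_or _).resolve_left fun h1 => hns ?_
    have := (spinHom_oreflProd_eq_one_iff hQ h2 hn [z', w']
      (by simp [hz', hw'])).1 h1
    simpa using this
  have hdk : dickson Q (oreflProd Q [z', w']) = 0 := by
    rw [dickson_oreflProd hQ _ (by simp [hz', hw'])]; exact ZMod.natCast_eq_zero_iff_even.2 ⟨1, rfl⟩
  refine ⟨g₁ * oreflProd Q [z', w'], (mem_commutator_iff_spin hQ h2 hn _).2 ⟨?_, ?_⟩, ?_⟩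
  · rw [dickson_mul hQ h, hd, hdk, add_zero]
  · rw [map_mul, (Int.units_eq_one_or _).resolve_left hs, hsp]; decide
  · rw [e g₁ _ (by simpa [oreflProd, orefl] using hzwU), hgU]

theorem map_refl_le_of_mem (U : Submodule F V) {z : V}
    (hz : z ∈ U ∨ z ∈ LinearMap.BilinForm.orthogonal (polarBilin Q) U) :
    U.map (refl Q z).toLinearMap ≤ U := by
  rintro _ ⟨u, hu, rfl⟩
  rw [LinearEquiv.coe_coe, refl_apply]
  rcases hz with hz | hz
  · exact U.sub_mem hu (U.smul_mem _ hz)
  · rw [show polar Q z u = 0 from (polar_comm Q z u).trans (hz u hu), mul_zero, zero_smul, sub_zero]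
    exact hu

/-- Transitivity on non-degenerate subspaces of a given isometry type. -/
theorem exists_commutator_nondeg (hQ : Nondeg Q) (hn : 3 ≤ finrank F V)
    (h : (∃ a : F, a ≠ 0 ∧ a ≠ 1) ∨ finrank F V ≠ 4) {U W : Submodule F V}
    (hU : U ⊓ LinearMap.BilinForm.orthogonal (polarBilin Q) U = ⊥)
    (e : U ≃ₗ[F] W) (he : ∀ u : U, Q (e u : V) = Q (u : V)) :
    ∃ g ∈ commutator (orth Q), U.map g.1.toLinearMap = W := by
  let b := Module.finBasis F U
  have hv : LinearIndependent F fun i => (b i : V) :=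
    b.linearIndependent.map' U.subtype U.ker_subtype
  have hw : LinearIndependent F fun i => (e (b i) : V) :=
    (b.map e).linearIndependent.map' W.subtype W.ker_subtype
  obtain ⟨g, hg, hgb⟩ := witt_orth hQ _ _ hv hw (fun i => (he (b i)).symm) (fun i j => by
    have h1 := he (b i + b j)
    simp only [map_add, Submodule.coe_add] at h1
    simp only [polar, h1, he])
  have hgW : U.map (g : V ≃ₗ[F] V).toLinearMap = W := by
    have hkey : ∀ u : U, g (u : V) = (e u : V) := by
      have hmap : (g : V ≃ₗ[F] V).toLinearMap ∘ₗ U.subtype = W.subtype ∘ₗ e.toLinearMap :=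
        b.ext fun i => hgb i
      exact fun u => congrFun (congrArg DFunLike.coe hmap) u
    apply le_antisymm
    · rintro _ ⟨u, hu, rfl⟩
      rw [LinearEquiv.coe_coe, hkey ⟨u, hu⟩]
      exact (e _).2
    · intro w hw'
      exact ⟨(e.symm ⟨w, hw'⟩ : U), (e.symm ⟨w, hw'⟩).2, by simp [hkey]⟩
  -- a non-degenerate subspace of dimension at least two inside `U` or its complement
  obtain ⟨Z, hZ2, hZn, hZ⟩ : ∃ Z : Submodule F V, 2 ≤ finrank F Z ∧ Nondeg (res Q Z) ∧
      ∀ z ∈ Z, z ∈ U ∨ z ∈ LinearMap.BilinForm.orthogonal (polarBilin Q) U := by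
    have hres : ∀ X : Submodule F V, X ⊓ LinearMap.BilinForm.orthogonal (polarBilin Q) X = ⊥ →
        Nondeg (res Q X) := fun X hX x hx => Subtype.ext ((Submodule.eq_bot_iff _).1 hX x
          ⟨x.2, fun y hy => (polar_comm Q y x).trans (hx ⟨y, hy⟩)⟩)
    rcases Nat.lt_or_ge (finrank F U) 2 with hlt | hge
    · refine ⟨LinearMap.BilinForm.orthogonal (polarBilin Q) U, ?_, hres _ ?_, fun z hz => Or.inr hz⟩
      · rw [LinearMap.BilinForm.finrank_orthogonal hQ.polarBilin]; omega
      · rw [LinearMap.BilinForm.orthogonal_orthogonal hQ.polarBilin ?_ U, inf_comm, hU]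
        exact LinearMap.IsSymm.isRefl ⟨fun x y => polar_comm (⇑Q) x y⟩
    · exact ⟨U, hge, hres U hU, fun z hz => Or.inl hz⟩
  obtain ⟨z, hz⟩ := exists_Q_eq hZn hZ2 1
  have hz' : Q (z : V) = 1 := hz
  obtain ⟨g', hg', hgU⟩ := exists_commutator_adjust hQ (by omega) h U
    ⟨z, by rw [hz']; exact one_ne_zero, map_refl_le_of_mem U (hZ z z.2)⟩
    (fun h2 => by
      obtain ⟨ν, hν⟩ := exists_nonsq h2
      obtain ⟨w, hw'⟩ := exists_Q_eq hZn hZ2 ν
      have hw'' : Q (w : V) = ν := hw'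
      refine ⟨z, w, by rw [hz']; exact one_ne_zero, fun h0 => hν ?_, ?_, ?_⟩
      · rw [← hw'', h0]; exact IsSquare.zero
      · rw [hz', hw'', one_mul]; exact hν
      · rintro _ ⟨u, hu, rfl⟩
        exact map_refl_le_of_mem U (hZ z z.2)
          ⟨_, map_refl_le_of_mem U (hZ w w.2) ⟨u, hu, rfl⟩, rfl⟩)
    ⟨g, hg⟩
  exact ⟨g', hg', hgU.trans hgW⟩

/-- Transitivity on totally singular subspaces of less than half the dimension. -/
theorem exists_commutator_singular (hQ : Nondeg Q)
    (h : (∃ a : F, a ≠ 0 ∧ a ≠ 1) ∨ finrank F V ≠ 4) {U W : Submodule F V}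
    (hk : 2 * finrank F U < finrank F V) (hUW : finrank F W = finrank F U)
    (hU0 : ∀ u ∈ U, Q u = 0) (hW0 : ∀ w ∈ W, Q w = 0) :
    ∃ g ∈ commutator (orth Q), U.map g.1.toLinearMap = W := by
  rcases Nat.eq_zero_or_pos (finrank F U) with hz | hpos
  · refine ⟨1, one_mem _, ?_⟩
    rw [hz] at hUW
    rw [Submodule.finrank_eq_zero] at hz hUW
    rw [hz, hUW, Submodule.map_bot]
  obtain ⟨g, hg, hle⟩ := exists_orth_map_le hQ U W hU0 hW0 hUW.ge
  have hgW : U.map (g : V ≃ₗ[F] V).toLinearMap = W :=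
    Submodule.eq_of_le_of_finrank_le hle (by rw [LinearEquiv.finrank_map_eq, hUW])
  obtain ⟨z, hz, hz0⟩ : ∃ z ∈ LinearMap.BilinForm.orthogonal (polarBilin Q) U, Q z ≠ 0 := by
    by_contra hc
    push Not at hc
    have h1 := two_mul_finrank_le hQ _ hc
    rw [LinearMap.BilinForm.finrank_orthogonal hQ.polarBilin] at h1
    omega
  obtain ⟨g', hg', hgU⟩ := exists_commutator_adjust hQ (by omega) h U
    ⟨z, hz0, map_refl_le_of_mem U (Or.inr hz)⟩
    (fun h2 => by
      obtain ⟨e, heU, he0⟩ := Submodule.exists_mem_ne_zero_of_ne_bot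
        (fun hb : U = ⊥ => by rw [hb, finrank_bot] at hpos; omega)
      obtain ⟨f, hp⟩ := exists_hypPair hQ he0 (hU0 e heU)
      obtain ⟨ν, hν⟩ := exists_nonsq h2
      have hν0 : ν ≠ 0 := fun h => hν (h ▸ IsSquare.zero)
      have hQs : ∀ s : F, Q (e + (-s) • f) = -s := fun s => by
        rw [Q_add, Q_smul, hp.left, hp.right, polar_smul_right, hp.pol, smul_eq_mul]; ring
      have hpol : ∀ (s : F) (x : V), polar Q (e + (-s) • f) x = polar Q e x + -s * polar Q f x :=
        fun s x => by rw [polar_add_left, polar_smul_left, smul_eq_mul]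
      refine ⟨e + (-ν) • f, e + (-(1 : F)) • f, by rw [hQs]; exact neg_ne_zero.2 hν0,
        by rw [hQs]; exact neg_ne_zero.2 one_ne_zero, by rw [hQs, hQs, neg_mul_neg, mul_one]; exact hν, ?_⟩
      rintro _ ⟨u, hu, rfl⟩
      show refl Q (e + (-ν) • f) (refl Q (e + (-(1 : F)) • f) u) ∈ U
      have hue : polar Q e u = 0 := singular_polar hU0 heU hu
      have key : refl Q (e + (-ν) • f) (refl Q (e + (-(1 : F)) • f) u) =
          u + (polar Q f u * (ν⁻¹ - 1)) • e := by
        rw [refl_apply, refl_apply]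
        simp only [hQs, hpol, polar_sub_right, polar_smul_right, polar_add_right, hp.pol, hp.pol',
          hp.pol_ee, hp.pol_ff, hue, smul_eq_mul]
        match_scalars <;> field_simp <;> ring
      rw [key]
      exact U.add_mem hu (U.smul_mem _ heU))
    ⟨g, hg⟩
  exact ⟨g', hg', hgU.trans hgW⟩

/-- Transitivity on non-singular points in characteristic two. -/
theorem exists_commutator_point (hQ : Nondeg Q) (h2 : (2 : F) = 0) (hn : 2 ≤ finrank F V)
    (h : (∃ a : F, a ≠ 0 ∧ a ≠ 1) ∨ finrank F V ≠ 4) {u v : V} (hu : Q u ≠ 0) (hv : Q v ≠ 0) :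
    ∃ g ∈ commutator (orth Q), (F ∙ g.1 u) = F ∙ v := by
  obtain ⟨r, hr⟩ := exists_sqrt h2 (Q u / Q v)
  have hr' : Q (r • v) = Q u := by rw [Q_smul, hr, div_mul_cancel₀ _ hv]
  have hr0 : r ≠ 0 := by
    rintro rfl
    rw [zero_smul, QuadraticMap.map_zero] at hr'
    exact hu hr'.symm
  obtain ⟨g, hg, hgu⟩ := witt_one hQ (fun h0 : u = 0 => hu (by rw [h0, QuadraticMap.map_zero]))
    (smul_ne_zero hr0 fun h0 : v = 0 => hv (by rw [h0, QuadraticMap.map_zero])) hr'.symm
  obtain ⟨g', hg', hgU⟩ := exists_commutator_adjust hQ hn h (F ∙ u)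
    ⟨u, hu, map_refl_le_of_mem _ (Or.inl (Submodule.mem_span_singleton_self u))⟩
    (fun h => absurd h2 h) ⟨g, hg⟩
  refine ⟨g', hg', ?_⟩
  rw [Submodule.map_span, Set.image_singleton, Submodule.map_span, Set.image_singleton] at hgU
  show (F ∙ g'.1.toLinearMap u) = _
  rw [hgU]
  show (F ∙ g u) = _
  rw [hgu, Submodule.span_singleton_smul_eq (isUnit_iff_ne_zero.2 hr0)]

/-- The commutator subgroup consists of products of pairs of reflections, in characteristic two. -/
theorem commutator_eq_closure_pairs (hQ : Nondeg Q) (h2 : (2 : F) = 0) (hn : 2 ≤ finrank F V)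
    (h : (∃ a : F, a ≠ 0 ∧ a ≠ 1) ∨ finrank F V ≠ 4) :
    commutator (orth Q) =
      Subgroup.closure {g | ∃ u v, Q u ≠ 0 ∧ Q v ≠ 0 ∧ g = orefl Q u * orefl Q v} := by
  apply le_antisymm
  · intro g hg
    have hd := (mem_commutator_iff_two hQ h2 hn h g).1 hg
    obtain ⟨vs, hvs, rfl⟩ : ∃ vs : List V, (∀ v ∈ vs, Q v ≠ 0) ∧ oreflProd Q vs = g := by
      clear hd hg
      have hm : g ∈ Subgroup.closure (reflSet Q) := by rw [closure_reflSet hQ h]; trivial
      induction hm using Subgroup.closure_induction with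
      | mem x hx =>
        obtain ⟨v, hv, rfl⟩ := hx
        exact ⟨[v], by simpa using hv, by simp [oreflProd]⟩
      | one => exact ⟨[], by simp, rfl⟩
      | mul x y hx hy ihx ihy =>
        obtain ⟨a, ha, ea⟩ := ihx
        obtain ⟨b, hb, eb⟩ := ihy
        exact ⟨a ++ b, fun v hv => (List.mem_append.1 hv).elim (ha v) (hb v), by
          simp [oreflProd, ← ea, ← eb]⟩
      | inv x hx ih =>
        obtain ⟨a, ha, rfl⟩ := ih
        refine ⟨a.reverse, fun v hv => ha v (List.mem_reverse.1 hv), ?_⟩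
        clear hx ha
        induction a with
        | nil => simp [oreflProd]
        | cons v l ihl =>
          have hinv : (orefl Q v)⁻¹ = orefl Q v := Subtype.ext (refl_inv Q v)
          rw [oreflProd_cons, mul_inv_rev, ← ihl, hinv]
          simp [oreflProd, List.map_reverse]
    rw [dickson_oreflProd hQ vs hvs, ZMod.natCast_eq_zero_iff_even] at hd
    obtain ⟨k, hk⟩ := hd
    clear hg
    induction k generalizing vs with
    | zero =>
      obtain rfl := List.length_eq_zero_iff.1 (hk.trans (add_zero 0))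
      exact one_mem _
    | succ k ih =>
      match vs, hk with
      | [], hk => (simp at hk) <;> omega
      | [_], hk => (simp at hk) <;> omega
      | u :: v :: l, hk =>
        rw [oreflProd_cons, oreflProd_cons, ← mul_assoc]
        refine mul_mem (Subgroup.subset_closure ⟨u, v, hvs u (by simp), hvs v (by simp), rfl⟩) ?_
        exact ih l (fun x hx => hvs x (by simp [hx])) (by simp at hk; omega)
  · rw [Subgroup.closure_le]
    rintro _ ⟨u, v, hu, hv, rfl⟩
    refine (mem_commutator_iff_two hQ h2 hn h _).2 ?_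
    rw [dickson_mul hQ h, dickson_orefl hQ hu, dickson_orefl hQ hv]
    first | rfl | decide

end Cfsg.Agent.Lib.Orth52
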